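import Cfsg.Agent.H6.LR.D.D0

set_option autoImplicit false
set_option maxRecDepth 100000
set_option Elab.async false

namespace Cfsg.H6.LR.D

def s1V0 : List (List ℕ) := [[nat_lit 3], [nat_lit 1], [nat_lit 0]]

theorem s1l0 : lvlChk M.img 275 18 [] (9, s1V0.map (subst (D.genW [9,10,11,12])), unp 4 (nat_lit 0x1102000076000000110100000900)) = true := by
  decide +kernel

def s1V1 : List (List ℕ) := [[nat_lit 1], [nat_lit 0]]

theorem s1l1 : lvlChk M.img 275 18 [9] (17, s1V1.map (subst (D.genW [9,10,11,12])), unp 3 (nat_lit 0x11010000760000001100)) = true := by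
  decide +kernel

def s1V2 : List (List ℕ) := [[nat_lit 4, nat_lit 1]]

theorem s1l2 : lvlChk M.img 275 18 [17,9] (113, s1V2.map (subst (D.genW [9,10,11,12])), unp 2 (nat_lit 0x780000007100)) = true := by
  decide +kernel

def s1V3 : List (List ℕ) := [[nat_lit 7, nat_lit 7], [nat_lit 2], [nat_lit 3, nat_lit 2, nat_lit 7]]

theorem s1l3 : lvlChk M.img 275 18 [113,17,9] (0, s1V3.map (subst (D.genW [9,10,11,12])), unp 26 (nat_lit 0xda00000109010000db000000e7010000e7000000ef01000107000000c8010000b90000009f010000d90000010e0100010e000000950100009f0000010a0100010a00000000020000ed010000ed0000000e010000bc0100009c000000d0010000bc0000000001)) = true := by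
  decide +kernel

def s1V4 : List (List ℕ) := [[nat_lit 7, nat_lit 7], [nat_lit 3, nat_lit 0, nat_lit 2, nat_lit 4, nat_lit 7, nat_lit 2]]

theorem s1l4 : lvlChk M.img 275 18 [0,113,17,9] (144, s1V4.map (subst (D.genW [9,10,11,12])), unp 5 (nat_lit 0xbc000000ed010000ed000000900100009000)) = true := by
  decide +kernel

def s1V5 : List (List ℕ) := [[nat_lit 0, nat_lit 2, nat_lit 4, nat_lit 7, nat_lit 2, nat_lit 3]]

theorem s1l5 : lvlChk M.img 275 18 [144,0,113,17,9] (1, s1V5.map (subst (D.genW [9,10,11,12])), unp 2 (nat_lit 0x380000000100)) = true := by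
  decide +kernel

theorem s1 : 87480 ≤ Nat.card (gen H.ev (D.genW [9,10,11,12])) := by
  have := H.finite
  refine (LBn.cast (((((((LBn.nil H.φM _ 275).stepU H.hφM (H.mem_subst_gen _ _) s1l0).stepU H.hφM (H.mem_subst_gen _ _) s1l1).stepU H.hφM (H.mem_subst_gen _ _) s1l2).stepU H.hφM (H.mem_subst_gen _ _) s1l3).stepU H.hφM (H.mem_subst_gen _ _) s1l4).stepU H.hφM (H.mem_subst_gen _ _) s1l5) (N' := 29160) (by decide +kernel)).mul_le Nat.prime_three ?_ (H.xM _) H.x1 H.x3
  rw [← evL_singleton H.ev, ← H.eq_of (u := subst (D.genW [9,10,11,12]) [1,0,1,0,1,0,1,0]) (by decide +kernel)]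
  exact evL_subst_mem (fun u hu => evL_mem_gen _ hu) _

end Cfsg.H6.LR.D
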