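import Cfsg.Agent.H6.LR.D.D0

set_option autoImplicit false
set_option maxRecDepth 100000
set_option Elab.async false

namespace Cfsg.H6.LR.D

theorem k9 : allR D.ok 216 24 = true := by decide +kernel

theorem k10 : allR D.ok 240 24 = true := by decide +kernel

theorem k11 : allR D.ok 264 24 = true := by decide +kernel

end Cfsg.H6.LR.D
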