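import Cfsg.Agent.H6.LR.H.Main

set_option autoImplicit false
set_option maxRecDepth 100000
set_option Elab.async false

namespace Cfsg.H6.LR.D

def c0 : Clm := ⟨0, 0, false, [], [1], 0, [], []⟩
def c1 : Clm := ⟨0, 0, false, [], [2], 0, [], []⟩
def c2 : Clm := ⟨0, 0, false, [], [3], 0, [], []⟩
def c3 : Clm := ⟨0, 0, false, [], [5], 0, [], []⟩
def c4 : Clm := ⟨0, 0, false, [], [6], 0, [], []⟩
def c5 : Clm := ⟨0, 0, false, [], [7], 0, [], []⟩
def c6 : Clm := ⟨0, 0, false, [], [8], 0, [], []⟩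
def c7 : Clm := ⟨0, 1, true, [], [], 1, [], []⟩
def c8 : Clm := ⟨1, 0, true, [], [], 5, [([], 7, [])], []⟩
def c9 : Clm := ⟨1, 1, false, [], [10,13,15,14,15,13,15,14], 3, [([], 7, []), ([9,7,10,5], 7, [12,13,15,13,16,13,15,13])], []⟩
def c10 : Clm := ⟨1, 1, false, [], [10,14,16,14,15,13], 3, [([], 7, []), ([3,11,13,11,7,5,6,2,5,10,12,0], 7, [12,14,15,14,16,13])], []⟩
def c11 : Clm := ⟨1, 1, false, [], [13,17,15,14,15,13,17,15,14,15], 3, [([], 7, []), ([13,11,3,9,5,3,12,8,6,10,12], 7, [12,14,16,14,17,15,14,17,16,14,15])], []⟩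
def c12 : Clm := ⟨1, 1, false, [], [14,16,14,15], 3, [([], 7, []), ([7,13,7,11,1,3,0,10,6,12,0,6], 7, [14,15,14,16])], []⟩
def c13 : Clm := ⟨1, 1, true, [13,15,13,16,13,15,13,16,7], [7], 7, [([], 7, []), ([10], 8, [13,15,13,16,13,15,13,16])], []⟩
def c14 : Clm := ⟨1, 1, true, [7], [13,15,13,16,13,15,13,16,7], 5, [([], 13, [])], []⟩
def c15 : Clm := ⟨1, 2, true, [7,2], [], 1, [], []⟩
def c16 : Clm := ⟨2, 1, true, [], [13,15,13,16,13,15,13,16,2,7], 5, [([], 15, [])], []⟩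
def c17 : Clm := ⟨2, 2, false, [], [11,15,13,15,14,15], 3, [([], 15, []), ([19], 15, [9,16,13,16,14,16])], []⟩
def c18 : Clm := ⟨2, 2, false, [], [11,14,15,14,16,13], 3, [([], 15, []), ([21], 15, [9,14,16,14,15,13])], []⟩
def c19 : Clm := ⟨2, 2, false, [], [9,14,15,14,16,17,15,13,16,13], 3, [([], 15, []), ([23], 15, [11,13,16,17,15,14])], []⟩
def c20 : Clm := ⟨2, 2, false, [], [13,15,14,16,13], 3, [([], 15, []), ([25], 15, [13,16,14,15,13])], []⟩
def c21 : Clm := ⟨2, 1, true, [13,15,13,16,13,15,13,16,7], [13,15,14,16,13,15,2,7], 7, [([], 15, []), ([21,19], 14, [12,16,13,15,14,16])], []⟩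
def c22 : Clm := ⟨1, 2, true, [13,15,14,16,13,15,2,7], [13,15,13,16,13,15,13,16,7], 5, [([], 21, [])], []⟩
def c23 : Clm := ⟨2, 2, false, [13,15,13,16,13,15,13,16,7], [15,14,16,13,15,7], 3, [([], 22, []), ([], 15, [15,14,16,13,15])], []⟩
def c24 : Clm := ⟨1, 3, true, [8], [], 1, [], []⟩
def c25 : Clm := ⟨3, 1, true, [], [8], 5, [([], 24, [])], []⟩
def c26 : Clm := ⟨3, 3, false, [], [11], 3, [([], 24, []), ([21,19,21,18,18], 24, [9])], []⟩
def c27 : Clm := ⟨3, 3, false, [], [14,17,16,13,16,17,16,14], 3, [([], 24, []), ([22,20,24,21,22,22,19,19], 24, [11,13,15,13,17,16,14,17,15,14,16])], []⟩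
def c28 : Clm := ⟨3, 3, false, [], [10,12,14,17,16,14,17,15], 3, [([], 24, []), ([24,19,23,19,21,19,22,18], 24, [9,17,15,13,15,17,15,13,15,17,16])], []⟩
def c29 : Clm := ⟨3, 3, false, [], [10,16,17,15,14,16,14,15,14], 3, [([], 24, []), ([25,22,21,19,20,23,24,21], 24, [10,17,15,13,16,17])], []⟩
def c30 : Clm := ⟨3, 3, true, [15,13,15,14,15,13,7], [15,14,17,16,14,15,14,17,15,17,7], 7, [([], 24, [13,15]), ([25,22,24,22], 25, [10,12,15,17,16,13,17,16,17])], []⟩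
def c31 : Clm := ⟨3, 1, true, [10,11,14,16,17,15,13,16,17,7], [14,16,17,16,13,16,14,16,17,15,2,8,7,8], 7, [([], 24, [17,15]), ([20,25,22,18], 14, [10,14,16,17,16,14,17,16])], []⟩
def c32 : Clm := ⟨1, 3, true, [14,16,17,16,13,16,14,16,17,15,2,8,7,8], [10,11,14,16,17,15,13,16,17,7], 5, [([], 31, [])], []⟩
def c33 : Clm := ⟨3, 3, false, [10,11,14,16,17,15,13,16,17,7], [12,13,15,13,16,13,17,16,13,16,6,8,15,3], 3, [([], 32, []), ([18,25,22,19], 24, [9,12,15,14,17,15,14,17,16,13,15])], []⟩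
def c34 : Clm := ⟨1, 4, true, [2,1], [], 1, [], []⟩
def c35 : Clm := ⟨4, 1, true, [], [2,1], 5, [([], 34, [])], []⟩
def c36 : Clm := ⟨4, 4, false, [], [12,13,15,13,16,13,15,13,16], 3, [([], 34, []), ([18,22,19,23,19,23,18], 34, [10,13,15,13,16,13,15,13,16])], []⟩
def c37 : Clm := ⟨4, 4, false, [], [14,16,13,15,14], 3, [([], 34, []), ([20,22,24,18,25,23,20,19,22], 34, [14,15,13,16,14])], []⟩
def c38 : Clm := ⟨4, 4, false, [], [14,16,13,15,13], 3, [([], 34, []), ([23,21,23,21,24,22], 34, [14,15,13,16,13])], []⟩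
def c39 : Clm := ⟨4, 1, true, [13,15,13,16,13,15,13,16,7], [9,12,14,15,14,5,7], 7, [([], 34, []), ([18], 14, [9,12,15,13,16,13,15])], []⟩
def c40 : Clm := ⟨1, 4, true, [9,12,14,15,14,5,7], [13,15,13,16,13,15,13,16,7], 5, [([], 39, [])], []⟩
def c41 : Clm := ⟨4, 4, false, [13,15,13,16,13,15,13,16,7], [11,14,16,14,7], 3, [([], 40, []), ([], 34, [9,15,13,16,13,15])], []⟩
def c42 : Clm := ⟨4, 3, true, [10,11,14,16,17,15,13,16,17,7], [10,15,14,16,13,17,15,14,15,14,17,16,7], 7, [([], 34, [17,15]), ([22,21,22,18], 25, [11,14,17,16,13,16,17,16,13,16,17])], []⟩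
def c43 : Clm := ⟨3, 4, true, [10,15,14,16,13,17,15,14,15,14,17,16,7], [10,11,14,16,17,15,13,16,17,7], 5, [([], 42, [])], []⟩
def c44 : Clm := ⟨4, 4, true, [10,11,14,16,17,15,13,16,13,17,15,7], [10,12,14,16,14,17,15,14,7], 7, [([], 34, [17,15,13,16]), ([18,22,21,22,19], 35, [10,12,14,16,17,15,13,16,13,15])], []⟩
def c45 : Clm := ⟨4, 4, true, [10,12,14,16,14,17,15,14,7], [10,11,14,16,17,15,13,16,13,17,15,7], 5, [([], 44, [])], []⟩
def c46 : Clm := ⟨1, 5, true, [4], [], 1, [], []⟩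
def c47 : Clm := ⟨5, 1, true, [], [4], 5, [([], 46, [])], []⟩
def c48 : Clm := ⟨5, 5, false, [], [12,13,15,13,16,13,15,13,16], 3, [([], 46, []), ([23,25,22,21,21,22,21,24], 46, [10,13,15,13,16,13,15,13,16])], []⟩
def c49 : Clm := ⟨5, 5, false, [], [11,13,16,14], 3, [([], 46, []), ([18,21,22,25,21,24,23,20,19], 46, [9,13,15,14])], []⟩
def c50 : Clm := ⟨5, 3, true, [13,15,13,16,13,15,13,16,7], [12,17,15,14,16,17,15,7], 7, [([], 46, []), ([23,21,19,22,20], 25, [10,14,15,13,16,13,17,15,14,16,13,15])], []⟩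
def c51 : Clm := ⟨3, 5, true, [12,17,15,14,16,17,15,7], [13,15,13,16,13,15,13,16,7], 5, [([], 50, [])], []⟩
def c52 : Clm := ⟨5, 5, false, [13,15,13,16,13,15,13,16,7], [11,16,13,15,14,16,2,7], 3, [([], 51, []), ([67,67,59,54], 51, [15,14,16,13,15])], []⟩
def c53 : Clm := ⟨5, 5, false, [13,15,13,16,13,15,13,16,7], [15,14,16,14,15,14,7,5], 3, [([], 51, []), ([66,55,66,54], 51, [13,16])], []⟩
def c54 : Clm := ⟨5, 5, true, [13,15,14,15,13,15,14,7], [10,12,16,14,15,14,7], 7, [([], 46, [15]), ([23,23,21,19], 47, [10,12,13,16,13,15])], []⟩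
def c55 : Clm := ⟨5, 5, true, [10,12,16,14,15,14,7], [13,15,14,15,13,15,14,7], 5, [([], 54, [])], []⟩
def c56 : Clm := ⟨5, 4, true, [14,16,14,15,14,7], [10,11,15,13,15,13,7], 7, [([], 46, [15,13,16]), ([22,22,19], 35, [10,11,13,16,14,16,14])], []⟩
def c57 : Clm := ⟨4, 5, true, [10,11,15,13,15,13,7], [14,16,14,15,14,7], 5, [([], 56, [])], []⟩
def c58 : Clm := ⟨5, 5, true, [9,12,17,16,14,15,17,15,7], [15,17,16,14,17,15,13,15,14,7], 7, [([], 46, [15,14,17,15]), ([19,21,23,18,20,22], 47, [17,16,14,17,16])], []⟩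
def c59 : Clm := ⟨5, 5, true, [9,12,13,15,17,16,14,15,14,17,15,7], [10,15,13,16,17,15,13,15,7], 7, [([], 46, [17,16,14,16]), ([18,23,20,25,19,22], 47, [10,15,13,16,13,17,16,14,16,13])], []⟩
def c60 : Clm := ⟨1, 6, true, [8,4], [], 1, [], []⟩
def c61 : Clm := ⟨6, 1, true, [], [10,3,8], 5, [([], 60, [])], []⟩
def c62 : Clm := ⟨6, 6, false, [], [12,16,13,17,16,13,17,15,13,16], 3, [([], 60, []), ([18,18,22,19,20,23,23,20,24,21], 60, [10,13,15,14,16,17,16,13,17,15,13])], []⟩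
def c63 : Clm := ⟨6, 6, false, [], [11], 3, [([], 60, []), ([24,22,24,23,21,23,20], 60, [9])], []⟩
def c64 : Clm := ⟨6, 6, true, [13,15,13,16,13,15,13,16,7], [10,16,13,15,14,7], 7, [([], 60, []), ([24,18,21], 61, [10,14,16,14,15,13])], []⟩
def c65 : Clm := ⟨6, 6, true, [10,16,13,15,14,7], [13,15,13,16,13,15,13,16,7], 5, [([], 64, [])], []⟩
def c66 : Clm := ⟨6, 6, true, [15,14,16,14,15,14,7], [11,14,16,14,17,15,14,17,15,13,7], 7, [([], 60, [13,16]), ([21,24,20,19,22], 61, [9,14,17,16,13,16,13,17,16])], []⟩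
def c67 : Clm := ⟨6, 6, true, [11,14,16,14,17,15,14,17,15,13,7], [15,14,16,14,15,14,7], 5, [([], 66, [])], []⟩
def c68 : Clm := ⟨6, 4, true, [14,15,13,15,14,7], [12,13,17,15,13,16,14,17,7], 7, [([], 60, [15,14,15]), ([25,23,21], 35, [9,11,14,15,14,16,14,17,15,13,16,13])], []⟩
def c69 : Clm := ⟨4, 6, true, [12,13,17,15,13,16,14,17,7], [14,15,13,15,14,7], 5, [([], 68, [])], []⟩
def c70 : Clm := ⟨6, 5, true, [14,16,13,15,17,15,14,16,13,7], [12,16,14,16,17,16,14,16,13,7], 7, [([], 60, [15,17,15]), ([18,23,18,21,18,22], 47, [12,16,14,16,14,17,15,13,15])], []⟩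
def c71 : Clm := ⟨5, 6, true, [12,16,14,16,17,16,14,16,13,7], [14,16,13,15,17,15,14,16,13,7], 5, [([], 70, [])], []⟩
def c72 : Clm := ⟨6, 3, true, [14,16,13,16,14,7], [10,11,13,15,13,16,17,16,14,17,7], 7, [([], 60, [16,14,16]), ([21,19,22,18,18], 25, [12,15,14,16,14,15,17,15,14,17])], []⟩
def c73 : Clm := ⟨3, 6, true, [10,11,13,15,13,16,17,16,14,17,7], [14,16,13,16,14,7], 5, [([], 72, [])], []⟩
def c74 : Clm := ⟨6, 6, true, [10,11,15,14,16,17,15,13,16,17,7], [12,14,16,13,16,13,17,15,14,15,14,7], 7, [([], 60, [16,17,15]), ([20,24,19,23,21,18], 61, [12,14,16,13,16,17,16,13,16,13])], []⟩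
def c75 : Clm := ⟨6, 5, true, [13,15,14,16,17,16,13,15,14,7], [10,11,16,14,16,13,17,16,17,7], 7, [([], 60, [16,17,16]), ([21,24,19,22,18], 47, [12,14,15,13,16,17,15,17])], []⟩
def c76 : Clm := ⟨5, 6, true, [10,11,16,14,16,13,17,16,17,7], [13,15,14,16,17,16,13,15,14,7], 5, [([], 75, [])], []⟩
def c77 : Clm := ⟨6, 5, true, [16,13,15,17,15,14,16,13,7], [15,13,16,17,16,14,17,7], 7, [([], 60, [13,15,17,15]), ([21,18,25,18,22], 47, [10,11,17,15,14,15,13,17,16,13,15])], []⟩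
def c78 : Clm := ⟨5, 6, true, [15,13,16,17,16,14,17,7], [16,13,15,17,15,14,16,13,7], 5, [([], 77, [])], []⟩
def c79 : Clm := ⟨6, 5, true, [14,16,14,16,13,7], [9,13,16,13,16,17,15,14,16,17,7], 7, [([], 60, [13,16,13,16]), ([22,19,19,22,24], 47, [9,16,14,15,14,17,16,14,15,17,15])], []⟩
def c80 : Clm := ⟨5, 6, true, [9,13,16,13,16,17,15,14,16,17,7], [14,16,14,16,13,7], 5, [([], 79, [])], []⟩
def c81 : Clm := ⟨6, 6, true, [9,12,17,16,14,15,17,7], [12,16,13,17,15,13,15,13,17,15,7], 7, [([], 60, [15,14,17,16]), ([19,24,18,23,18], 61, [10,16,13,15,14,17,16,14,17,16,13])], []⟩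
def c82 : Clm := ⟨6, 6, true, [12,16,13,17,15,13,15,13,17,15,7], [9,12,17,16,14,15,17,7], 5, [([], 81, [])], []⟩
def c83 : Clm := ⟨6, 5, true, [14,16,13,15,14,17,16,14,16,13,7], [12,17,15,14,15,17,15,14,15,17,16,7], 7, [([], 60, [15,17,15,13,15]), ([19,20,23,21,19], 47, [10,12,17,16,14,15,13,17,15,13,17])], []⟩
def c84 : Clm := ⟨5, 6, true, [12,17,15,14,15,17,15,14,15,17,16,7], [14,16,13,15,14,17,16,14,16,13,7], 5, [([], 83, [])], []⟩
def c85 : Clm := ⟨6, 5, true, [14,16,13,15,17,15,14,16,14,15,7], [10,14,16,14,15,13,17,16,13,17,15,7], 7, [([], 60, [15,17,15,13,16]), ([23,21,18,22,18,21], 47, [15,14,17,15,13,15,17,15,14,17])], []⟩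
def c86 : Clm := ⟨5, 6, true, [10,14,16,14,15,13,17,16,13,17,15,7], [14,16,13,15,17,15,14,16,14,15,7], 5, [([], 85, [])], []⟩
def c87 : Clm := ⟨6, 6, true, [9,12,15,13,17,16,13,16,17,16,13,1,2,1,17,15,7], [11,16,14,16,13,16,1,7,15], 7, [([], 69, [12,13,15,13,16,17,15,13,16]), ([82,74,72,83], 68, [13,16,13,15])], []⟩
def c88 : Clm := ⟨6, 6, true, [11,16,14,16,13,16,1,7,15], [9,12,15,13,17,16,13,16,17,16,13,1,2,1,17,15,7], 5, [([], 87, [])], []⟩
def c89 : Clm := ⟨3, 6, true, [14,17,15,14,15,17,15,14,17,16,1,16,17,16,2], [12,16,17,15,14,15,14,17,1,17,15,2,17], 7, [([], 42, [13,17,15,13,16,17]), ([83], 68, [14,16,13,17,15])], []⟩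
def c90 : Clm := ⟨6, 3, true, [12,16,17,15,14,15,14,17,1,17,15,2,17], [14,17,15,14,15,17,15,14,17,16,1,16,17,16,2], 5, [([], 89, [])], []⟩
def c91 : Clm := ⟨1, 6, true, [9,12,17,15,13,17,16,14,16,17,15,4,8,13,16], [14,16,13,16,14,2,7], 7, [([], 35, [15,13,16,14,17,15,14,17,15,13,15]), ([83,77,75,83], 68, [15,13,16,14,15])], []⟩
def c92 : Clm := ⟨6, 1, true, [14,16,13,16,14,2,7], [9,12,17,15,13,17,16,14,16,17,15,4,8,13,16], 5, [([], 91, [])], []⟩
def c93 : Clm := ⟨4, 6, true, [9,12,14,15,17,15,14,17,16,13,16,17,1,2,7,17,2,17], [9,14,17,16,14,17,15,14,17,16,5,13,17,15,7], 7, [([72], 45, [10,12,14,17,15,14,15,13,17,16]), ([77,74,73,83], 68, [13,16,17,15,13,16])], []⟩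
def c94 : Clm := ⟨6, 4, true, [9,14,17,16,14,17,15,14,17,16,5,13,17,15,7], [9,12,14,15,17,15,14,17,16,13,16,17,1,2,7,17,2,17], 5, [([], 93, [])], []⟩
def c95 : Clm := ⟨6, 6, false, [9,16,14,17,16,13,15,17,16,17,7,16,17,16], [14,16,14,15,17,16,13,7,8,5,12,8], 6, [([], 68, [16,17,15,14,15]), ([73,83,74,82,74], 44, [12,15,13,15,17,15,14,17]), ([75,76,82,77,74], 93, [10,15,13,16,14,17,15,13,17,16,14,15])], []⟩
def c96 : Clm := ⟨6, 6, true, [9,16,13,15,17,15,13,15,13,17,16,8,11,14,8], [9,16,13,15,17,15,13,15,17,16,8,11,14,8], 7, [([], 69, [9,12,15,14,16,13,17,16,13]), ([83,75,82,77], 68, [16,17,16,13,16])], []⟩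
def c97 : Clm := ⟨6, 6, true, [9,16,13,15,17,15,13,15,17,16,8,11,14,8], [9,16,13,15,17,15,13,15,13,17,16,8,11,14,8], 5, [([], 96, [])], []⟩
def c98 : Clm := ⟨6, 6, true, [10,12,14,15,13,17,15,14,17,16,1,13,8,14,8], [9,16,14,16,17,16,13,16,14,16,5,17,15,7], 7, [([], 93, [11,17,15,13,17,15,14,17,15,14,15]), ([73,82,82,74,82], 68, [16,17,16,14,15])], []⟩
def c99 : Clm := ⟨6, 6, true, [9,16,14,16,17,16,13,16,14,16,5,17,15,7], [10,12,14,15,13,17,15,14,17,16,1,13,8,14,8], 5, [([], 98, [])], []⟩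
def c100 : Clm := ⟨4, 6, true, [11,16,14,16,13,17,16,14,16,13,1,17,16,7,12], [13,15,17,15,13,17,15,13,4,7,17], 7, [([], 68, [17,15,14,17,15]), ([127,190,124], 99, [9,16,14,17,15,14,17,15])], []⟩
def c101 : Clm := ⟨6, 4, true, [13,15,17,15,13,17,15,13,4,7,17], [11,16,14,16,13,17,16,14,16,13,1,17,16,7,12], 5, [([], 100, [])], []⟩
def c102 : Clm := ⟨6, 6, true, [10,12,16,13,16,17,16,14,16,14,1,6,12,8,15,4], [9,14,15,13,15,17,16,13,1,16,17,16,2], 7, [([], 93, [11,13,16,13,15,14,17,15,17]), ([76,75,77], 68, [14,15,17,15,13,15])], []⟩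
def c103 : Clm := ⟨6, 6, true, [9,14,15,13,15,17,16,13,1,16,17,16,2], [10,12,16,13,16,17,16,14,16,14,1,6,12,8,15,4], 5, [([], 102, [])], []⟩
def c104 : Clm := ⟨6, 6, true, [16,13,15,14,16,17,16,14,15,1,8,16,7,5], [17,16,13,17,15,13,17,15,13,1,2,1,17,15,7], 7, [([], 93, [9,11,15,17,15,14,17,15,13,17,15]), ([76,82,77,74,72,83], 68, [13,15,17,15,14,15])], []⟩
def c105 : Clm := ⟨6, 6, true, [17,16,13,17,15,13,17,15,13,1,2,1,17,15,7], [16,13,15,14,16,17,16,14,15,1,8,16,7,5], 5, [([], 104, [])], []⟩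
def c106 : Clm := ⟨6, 6, true, [15,17,16,14,16,17,16,14,16,14,1,2,17,15,2], [10,13,16,13,17,16,14,17,15,17,2,7,6,17,2], 7, [([], 100, [16,13,15,13,17,15,13,17,16,13]), ([76,82,76,82,82], 68, [13,16,13,15,17,15])], []⟩
def c107 : Clm := ⟨6, 6, true, [10,13,16,13,17,16,14,17,15,17,2,7,6,17,2], [15,17,16,14,16,17,16,14,16,14,1,2,17,15,2], 5, [([], 106, [])], []⟩
def c108 : Clm := ⟨6, 6, true, [13,16,17,15,14,15,17,15,3,1,17,6,11], [9,16,17,16,14,17,16,13,17,16,13,15,5,17,5,7,17], 7, [([], 93, [12,13,16,14,17,16,13,15,17]), ([75,83,74,83], 68, [13,15,13,17,15,14,16])], []⟩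
def c109 : Clm := ⟨6, 6, true, [9,16,17,16,14,17,16,13,17,16,13,15,5,17,5,7,17], [13,16,17,15,14,15,17,15,3,1,17,6,11], 5, [([], 108, [])], []⟩
def c110 : Clm := ⟨6, 6, true, [10,14,17,16,13,16,17,15,14,15,13,1,13,8,11,13], [12,13,15,17,15,14,17,16,13,5,17,15,7,11], 7, [([], 100, [9,16,14,17,16,14,17,16,13]), ([83,74,82,74,77], 68, [14,15,17,15,13,17,16])], []⟩
def c111 : Clm := ⟨6, 6, true, [12,13,15,17,15,14,17,16,13,5,17,15,7,11], [10,14,17,16,13,16,17,15,14,15,13,1,13,8,11,13], 5, [([], 110, [])], []⟩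
def c112 : Clm := ⟨6, 6, true, [11,17,16,13,16,17,16,13,15,1,14,17,15], [12,13,15,14,15,17,16,13,15,1,5,15,8,6], 7, [([], 69, [13,15,13,17,15,14,17,15,13,15]), ([77,82,75,76,82,74], 68, [15,13,16,17,15,14,16])], []⟩
def c113 : Clm := ⟨6, 6, true, [12,13,15,14,15,17,16,13,15,1,5,15,8,6], [11,17,16,13,16,17,16,13,15,1,14,17,15], 5, [([], 112, [])], []⟩
def c114 : Clm := ⟨6, 6, true, [15,17,15,14,17,15,13,15,14,17,1,6,7,8,6,2], [9,14,17,15,14,15,14,17,16,17,1,6,8,5,6], 7, [([], 69, [10,13,17,15,13,15,14,17,15,13,15]), ([82,74,76,82,76], 68, [15,14,15,17,15,13,15])], []⟩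
def c115 : Clm := ⟨6, 6, true, [9,14,17,15,14,15,14,17,16,17,1,6,8,5,6], [15,17,15,14,17,15,13,15,14,17,1,6,7,8,6,2], 5, [([], 114, [])], []⟩
def c116 : Clm := ⟨6, 6, true, [11,15,17,16,13,15,13,17,16,14,16,8,17,2,1], [17,15,14,15,17,15,14,15,14,17,15,6,8,13,17,8], 7, [([], 69, [15,17,16,14,15]), ([82,75,82,76,74,72], 94, [15,14,15,14,17,15,14,15,14,17])], []⟩
def c117 : Clm := ⟨6, 6, true, [17,15,14,15,17,15,14,15,14,17,15,6,8,13,17,8], [11,15,17,16,13,15,13,17,16,14,16,8,17,2,1], 5, [([], 116, [])], []⟩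
def c118 : Clm := ⟨5, 6, true, [16,14,16,17,16,14,15,13,16,3,12,15], [9,14,16,17,15,13,15,13,17,4], 7, [([], 70, [15,13,15]), ([126,125,125], 103, [9,14,17,16,14,16,14,17,15,17])], []⟩
def c119 : Clm := ⟨6, 5, true, [9,14,16,17,15,13,15,13,17,4], [16,14,16,17,16,14,15,13,16,3,12,15], 5, [([], 118, [])], []⟩
def c120 : Clm := ⟨5, 6, true, [12,16,14,16,13,17,15,13,15,13,1,7,15], [9,14,15,13,15,17,15,14,15,8,11,16,3,2], 7, [([], 70, [15,13,16]), ([126,191,191,127,190,127], 117, [13,15,14,17,15,13,15])], []⟩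
def c121 : Clm := ⟨6, 5, true, [9,14,15,13,15,17,15,14,15,8,11,16,3,2], [12,16,14,16,13,17,15,13,15,13,1,7,15], 5, [([], 120, [])], []⟩
def c122 : Clm := ⟨5, 6, true, [9,16,14,15,13,17,15,14,16,14,17,2,7,6,17,2], [12,13,17,15,13,17,15,14,5,17,8,11], 7, [([], 70, [15,13,17,15]), ([191,126,190,127], 117, [16,17,15,13,17,15,14,16,17,16])], []⟩
def c123 : Clm := ⟨6, 5, true, [12,13,17,15,13,17,15,14,5,17,8,11], [9,16,14,15,13,17,15,14,16,14,17,2,7,6,17,2], 5, [([], 122, [])], []⟩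
def c124 : Clm := ⟨6, 6, true, [12,15,13,17,16,13,15,13,16,17,3,13,17,16,5,16], [10,14,15,17,15,13,17,15,14,17,2,8,7,8,12], 7, [([], 118, [9,11,13,16,14,16,17,15,17]), ([98,107,105,106], 70, [15,13,17,16])], []⟩
def c125 : Clm := ⟨6, 6, true, [10,14,15,17,15,13,17,15,14,17,2,8,7,8,12], [12,15,13,17,16,13,15,13,16,17,3,13,17,16,5,16], 5, [([], 124, [])], []⟩
def c126 : Clm := ⟨6, 6, true, [10,12,16,14,17,16,13,15,17,1,2,17,8,17], [10,15,14,16,14,17,15,13,15,13,8,12,13,8], 7, [([], 78, [9,13,16,14,16,13,17,16,13]), ([106,99,106], 70, [15,14,17,16])], []⟩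
def c127 : Clm := ⟨6, 6, true, [10,15,14,16,14,17,15,13,15,13,8,12,13,8], [10,12,16,14,17,16,13,15,17,1,2,17,8,17], 5, [([], 126, [])], []⟩
def c128 : Clm := ⟨6, 6, true, [11,13,17,16,13,16,14,17,6,13,17,16,2], [14,15,13,16,13,17,15,14,16,17,15,5,17,5,7,17], 7, [([], 76, [9,11,13,17,15,14,17,15,13,17,15,14,17]), ([97,107,96], 70, [13,16,14,17,15])], []⟩
def c129 : Clm := ⟨6, 6, true, [14,15,13,16,13,17,15,14,16,17,15,5,17,5,7,17], [11,13,17,16,13,16,14,17,6,13,17,16,2], 5, [([], 128, [])], []⟩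
def c130 : Clm := ⟨5, 6, true, [9,13,15,14,15,14,17,15,17,3,12,15], [10,11,15,14,15,13,15,17,15,3,11,15,17,1], 7, [([], 70, [17,15,13,15]), ([191,127], 109, [10,13,15,17,15,14,17,16,14,15])], []⟩
def c131 : Clm := ⟨6, 5, true, [10,11,15,14,15,13,15,17,15,3,11,15,17,1], [9,13,15,14,15,14,17,15,17,3,12,15], 5, [([], 130, [])], []⟩
def c132 : Clm := ⟨5, 6, true, [9,12,15,13,17,15,14,17,15,13,17,15,14,5,17,15,7,11], [9,15,13,17,16,13,17,16,13,16,1,8,16,3,15], 7, [([], 70, [15,13,16,17,16]), ([126,190,127,191,191], 116, [11,13,17,15,14,15,14,17,16,14])], []⟩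
def c133 : Clm := ⟨6, 5, true, [9,15,13,17,16,13,17,16,13,16,1,8,16,3,15], [9,12,15,13,17,15,14,17,15,13,17,15,14,5,17,15,7,11], 5, [([], 132, [])], []⟩
def c134 : Clm := ⟨5, 5, true, [13,17,15,14,15,17,15,13,16,14,15,1,7,15,17], [9,12,14,16,14,15,14,17,16,17,8,7,8,6], 7, [([], 70, [16,17,16,13,16]), ([127,191,126,124], 122, [12,17,15,14,15])], []⟩
def c135 : Clm := ⟨5, 5, true, [9,12,14,16,14,15,14,17,16,17,8,7,8,6], [13,17,15,14,15,17,15,13,16,14,15,1,7,15,17], 5, [([], 134, [])], []⟩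
def c136 : Clm := ⟨5, 6, true, [9,14,17,16,14,16,14,17,15,13,15,1,17,16,7,12], [9,16,14,16,13,17,15,13,16,14,17,2,3,8,14,4], 7, [([], 70, [17,15,14,17,15]), ([191,127,190,190,126], 97, [9,16,14,16,17,15,13])], []⟩
def c137 : Clm := ⟨6, 5, true, [9,16,14,16,13,17,15,13,16,14,17,2,3,8,14,4], [9,14,17,16,14,16,14,17,15,13,15,1,17,16,7,12], 5, [([], 136, [])], []⟩
def c138 : Clm := ⟨5, 5, true, [13,15,17,16,14,15,17,15,8,11,15,17,16], [10,16,13,17,16,14,17,16,13,17,1,6], 7, [([], 70, [17,16,14,17,15]), ([190,127,191,191,124], 136, [10,15,14,16,13,15,17,16,14,16])], []⟩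
def c139 : Clm := ⟨5, 5, true, [10,16,13,17,16,14,17,16,13,17,1,6], [13,15,17,16,14,15,17,15,8,11,15,17,16], 5, [([], 138, [])], []⟩
def c140 : Clm := ⟨5, 6, true, [10,11,15,14,16,17,15,13,16,14,15,4,17,3,15,2], [9,16,17,15,13,16,14,15,17,15,13,17,7,5,17], 7, [([], 138, [15,17,15,13,15,14,17,15,14]), ([106,105,98], 70, [14,16,17,15,13,15])], []⟩
def c141 : Clm := ⟨6, 5, true, [9,16,17,15,13,16,14,15,17,15,13,17,7,5,17], [10,11,15,14,16,17,15,13,16,14,15,4,17,3,15,2], 5, [([], 140, [])], []⟩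
def c142 : Clm := ⟨5, 6, true, [9,14,17,15,13,15,17,15,13,15,17,4,17,6,13], [9,11,14,15,13,17,15,14,15,13,7,5,17], 7, [([], 134, [9,14,16,17,15,13,16,13,15,13,17,16]), ([104], 70, [16,17,15,14,15])], []⟩
def c143 : Clm := ⟨6, 5, true, [9,11,14,15,13,17,15,14,15,13,7,5,17], [9,14,17,15,13,15,17,15,13,15,17,4,17,6,13], 5, [([], 142, [])], []⟩
def c144 : Clm := ⟨5, 6, true, [17,15,14,16,17,16,13,16,3,8,11,14,6,4], [9,15,17,16,13,17,16,14,15,13,17,2,8,7,8], 7, [([], 138, [12,16,13,15,14,17,15,13,15,14]), ([106,99], 70, [13,16,17,16,14,16])], []⟩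
def c145 : Clm := ⟨6, 5, true, [9,15,17,16,13,17,16,14,15,13,17,2,8,7,8], [17,15,14,16,17,16,13,16,3,8,11,14,6,4], 5, [([], 144, [])], []⟩
def c146 : Clm := ⟨5, 6, true, [9,17,15,13,16,14,15,17,16,13,15,8,7,11,15], [11,14,15,13,17,15,14,15,5,13,17,15,7], 7, [([], 138, [12,14,15,14,15,17,16,13,17]), ([105,98], 70, [15,17,16,13,17,16])], []⟩
def c147 : Clm := ⟨6, 5, true, [11,14,15,13,17,15,14,15,5,13,17,15,7], [9,17,15,13,16,14,15,17,16,13,15,8,7,11,15], 5, [([], 146, [])], []⟩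
def c148 : Clm := ⟨3, 6, true, [12,14,16,14,15,13,17,16,13,15,14,2,7,6,17,2], [9,13,15,14,16,17,16,14,17,15,13,15,2,8,7,2,15], 7, [([], 72, [15,13,17,15]), ([127], 110, [13,15,14,16,13,15,17])], []⟩
def c149 : Clm := ⟨6, 3, true, [9,13,15,14,16,17,16,14,17,15,13,15,2,8,7,2,15], [12,14,16,14,15,13,17,16,13,15,14,2,7,6,17,2], 5, [([], 148, [])], []⟩
def c150 : Clm := ⟨6, 6, true, [9,11,15,13,15,17,15,13,15,1,4,17,8,16], [13,15,14,16,14,17,15,3,11,15], 7, [([], 120, [15,13,16,17,16,14,16,17,15]), ([97,106,105], 75, [15,14,15])], []⟩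
def c151 : Clm := ⟨6, 6, true, [13,15,14,16,14,17,15,3,11,15], [9,11,15,13,15,17,15,13,15,1,4,17,8,16], 5, [([], 150, [])], []⟩
def c152 : Clm := ⟨5, 5, true, [11,15,14,15,13,15,14,17,15,13,16,3,12,15], [16,14,17,15,13,15,17,15,13,17,16,1,15,5,8,11,3], 7, [([], 75, [17,15,13,15]), ([191,126,191], 78, [10,11,15,14,17,15,14,16,17])], []⟩
def c153 : Clm := ⟨5, 5, true, [16,14,17,15,13,15,17,15,13,17,16,1,15,5,8,11,3], [11,15,14,15,13,15,14,17,15,13,16,3,12,15], 5, [([], 152, [])], []⟩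
def c154 : Clm := ⟨5, 5, true, [15,14,15,13,15,17,16,13,15,4,1,11], [14,16,17,15,14,17,16,1,16,17,2,17], 7, [([], 75, [17,15,14,15]), ([190], 86, [14,15,13,16,17,16,13,16])], []⟩
def c155 : Clm := ⟨5, 5, true, [14,16,17,15,14,17,16,1,16,17,2,17], [15,14,15,13,15,17,16,13,15,4,1,11], 5, [([], 154, [])], []⟩
def c156 : Clm := ⟨5, 3, true, [10,14,16,13,17,16,13,15,17,5,17,15,7,11], [9,17,16,14,16,13,17,16,13,15,1,6,11,8,7], 7, [([], 75, [15,13,16,17,16]), ([191,127,125,125], 148, [9,11,15,13,16,14,15,17,15,13])], []⟩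
def c157 : Clm := ⟨3, 5, true, [9,17,16,14,16,13,17,16,13,15,1,6,11,8,7], [10,14,16,13,17,16,13,15,17,5,17,15,7,11], 5, [([], 156, [])], []⟩
def c158 : Clm := ⟨5, 6, true, [11,13,15,17,15,13,17,15,13,4,14,17,1,5,17], [15,13,15,14,15,17,16,14,17,5,15,17,2,17], 7, [([], 154, [12,13,15,14,15,14,17]), ([105,107,99], 75, [13,17,15,14,17,15])], []⟩
def c159 : Clm := ⟨6, 5, true, [15,13,15,14,15,17,16,14,17,5,15,17,2,17], [11,13,15,17,15,13,17,15,13,4,14,17,1,5,17], 5, [([], 158, [])], []⟩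
def c160 : Clm := ⟨6, 6, true, [9,15,13,17,16,13,17,16,14,1,17,2,8,15], [9,16,17,16,13,15,14,17,16,17,1,8,17,8], 7, [([], 84, [9,14,15,14,16,14,17,15,14,16,14]), ([104,99], 75, [15,14,16,13,17,15])], []⟩
def c161 : Clm := ⟨6, 6, true, [9,16,17,16,13,15,14,17,16,17,1,8,17,8], [9,15,13,17,16,13,17,16,14,1,17,2,8,15], 5, [([], 160, [])], []⟩
def c162 : Clm := ⟨5, 6, true, [17,15,14,16,13,17,16,14,16,14,6,17,2,17], [11,14,15,13,17,15,14,15,17,2,5,17,6,14], 7, [([], 75, [15,17,15,13,17,16]), ([191,191,126,124,124], 129, [10,12,17,16,13,16,13,17,15,14,17])], []⟩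
def c163 : Clm := ⟨6, 5, true, [11,14,15,13,17,15,14,15,17,2,5,17,6,14], [17,15,14,16,13,17,16,14,16,14,6,17,2,17], 5, [([], 162, [])], []⟩
def c164 : Clm := ⟨5, 6, true, [9,12,14,15,17,15,14,15,14,4,12,17,8,15], [10,12,16,14,15,14,16,17,15,17,5,17,5,15,2], 7, [([], 152, [16,13,16,17,15,13,16,14,15,17]), ([99,107,104], 75, [13,15,17,15,14,17,16])], []⟩
def c165 : Clm := ⟨6, 5, true, [10,12,16,14,15,14,16,17,15,17,5,17,5,15,2], [9,12,14,15,17,15,14,15,14,4,12,17,8,15], 5, [([], 164, [])], []⟩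
def c166 : Clm := ⟨6, 6, true, [16,14,15,13,17,15,14,16,13,17,16,7,16,17,15], [10,14,15,13,15,14,17,15,13,17,15,1,6,7,8,6], 7, [([], 76, [9,12,14,15,13,15,17,15,14,15,17]), ([104,99], 75, [16,13,17,15,14,16])], []⟩
def c167 : Clm := ⟨6, 6, true, [10,14,15,13,15,14,17,15,13,17,15,1,6,7,8,6], [16,14,15,13,17,15,14,16,13,17,16,7,16,17,15], 5, [([], 166, [])], []⟩
def c168 : Clm := ⟨5, 4, true, [10,13,16,13,16,13,17,15,14,15,6,13,17,2], [10,12,17,16,13,17,16,14,15,13,2,8,7,5,14,8], 7, [([], 75, [17,15,14,16,17,16]), ([190,127,190,126], 100, [16,14,17,16,13,17,16])], []⟩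
def c169 : Clm := ⟨4, 5, true, [10,12,17,16,13,17,16,14,15,13,2,8,7,5,14,8], [10,13,16,13,16,13,17,15,14,15,6,13,17,2], 5, [([], 168, [])], []⟩
def c170 : Clm := ⟨5, 3, true, [12,13,15,13,16,13,15,13,17,15,14,15,2,7,6,17,2], [11,13,17,16,13,16,13,17,15,14,17,7,8,13,16,1], 7, [([], 77, [17,15,13,17,15]), ([190,126,125,125], 148, [14,16,14,16,13,17,16,13,15,13,16])], []⟩
def c171 : Clm := ⟨3, 5, true, [11,13,17,16,13,16,13,17,15,14,17,7,8,13,16,1], [12,13,15,13,16,13,15,13,17,15,14,15,2,7,6,17,2], 5, [([], 170, [])], []⟩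
def c172 : Clm := ⟨5, 4, true, [13,15,13,16,13,15,17,16,13,16,6,17,2,17], [10,12,16,14,15,13,17,15,1,3,7,8,11], 7, [([], 77, [15,17,15,13,17,16]), ([190,126,125,125], 100, [9,11,15,13,16,13,15,13,16,17,15])], []⟩
def c173 : Clm := ⟨4, 5, true, [10,12,16,14,15,13,17,15,1,3,7,8,11], [13,15,13,16,13,15,17,16,13,16,6,17,2,17], 5, [([], 172, [])], []⟩
def c174 : Clm := ⟨5, 6, true, [9,17,16,13,17,16,13,15,13,16,2,8,15,1], [10,14,17,16,14,17,16,13,16,17,7,5], 7, [([], 143, [9,13,17,16,14]), ([125,125], 82, [9,12,15,13,16,13,15,13,16,17,15])], []⟩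
def c175 : Clm := ⟨6, 5, true, [10,14,17,16,14,17,16,13,16,17,7,5], [9,17,16,13,17,16,13,15,13,16,2,8,15,1], 5, [([], 174, [])], []⟩
def c176 : Clm := ⟨5, 4, true, [16,13,17,15,13,17,15,14,16,17,3,15,17], [9,12,16,14,16,13,17,16,13,15,1,8,6,8,12,3], 7, [([], 83, [15,13,17,15,13,17,16]), ([126,191,127,125], 100, [10,11,14,17,16,13,16,14,17,15,14])], []⟩
def c177 : Clm := ⟨4, 5, true, [9,12,16,14,16,13,17,16,13,15,1,8,6,8,12,3], [16,13,17,15,13,17,15,14,16,17,3,15,17], 5, [([], 176, [])], []⟩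
def c178 : Clm := ⟨5, 3, true, [11,14,15,14,15,17,15,13,16,5,13,8,16], [9,12,13,16,14,15,17,15,13,2,4,17,6,13], 7, [([], 83, [15,14,17,15,14,17,16]), ([191,127,125], 148, [11,13,15,14,17,15,14,17,16,14,17,15])], []⟩
def c179 : Clm := ⟨3, 5, true, [9,12,13,16,14,15,17,15,13,2,4,17,6,13], [11,14,15,14,15,17,15,13,16,5,13,8,16], 5, [([], 178, [])], []⟩
def c180 : Clm := ⟨5, 4, true, [14,16,13,15,13,17,16,13,16,17,3,12,15], [12,13,17,16,14,17,15,14,17,16,2,8,7,3,12], 7, [([], 85, [17,15,13,15]), ([190,126], 100, [11,14,17,16,14,17,16,13,15])], []⟩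
def c181 : Clm := ⟨4, 5, true, [12,13,17,16,14,17,15,14,17,16,2,8,7,3,12], [14,16,13,15,13,17,16,13,16,17,3,12,15], 5, [([], 180, [])], []⟩
def c182 : Clm := ⟨5, 3, true, [12,13,17,15,13,16,13,17,16,17,4,1,11], [10,12,16,14,16,14,17,16,14,16,1,13,6,8,15,2], 7, [([], 85, [17,15,14,15]), ([126,190,126], 148, [10,15,14,16,13,15,17,15,13,16,14])], []⟩
def c183 : Clm := ⟨3, 5, true, [10,12,16,14,16,14,17,16,14,16,1,13,6,8,15,2], [12,13,17,15,13,16,13,17,16,17,4,1,11], 5, [([], 182, [])], []⟩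
def c184 : Clm := ⟨5, 3, true, [11,16,17,16,14,15,13,17,3,17,5,8,14], [9,17,15,14,15,13,17,16,14,17,1,6,17,6,3,1], 7, [([], 175, [10,11,14,15,13,17,16,13,17]), ([190,127,125,125], 89, [16,14,17,16])], []⟩
def c185 : Clm := ⟨3, 5, true, [9,17,15,14,15,13,17,16,14,17,1,6,17,6,3,1], [11,16,17,16,14,15,13,17,3,17,5,8,14], 5, [([], 184, [])], []⟩
def c186 : Clm := ⟨5, 3, true, [13,15,17,15,14,16,13,17,1,5,8,14,4,11], [10,14,16,14,17,16,14,15,14,6,17,4,1,11], 7, [([], 121, [10,11,16,17,16,14,17,15,13]), ([127,191,191,124,124], 89, [17,16,14,16])], []⟩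
def c187 : Clm := ⟨3, 5, true, [10,14,16,14,17,16,14,15,14,6,17,4,1,11], [13,15,17,15,14,16,13,17,1,5,8,14,4,11], 5, [([], 186, [])], []⟩
def c188 : Clm := ⟨5, 4, true, [9,16,14,17,15,13,17,16,13,3,13,17,16,1,14], [12,13,16,14,17,15,13,17,15,17,1,7,12,17,6], 7, [([], 165, [10,14,15,13,15,17,15,13,17,16,13]), ([190,127,190,126], 93, [15,17,15])], []⟩
def c189 : Clm := ⟨4, 5, true, [12,13,16,14,17,15,13,17,15,17,1,7,12,17,6], [9,16,14,17,15,13,17,16,13,3,13,17,16,1,14], 5, [([], 188, [])], []⟩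
def c190 : Clm := ⟨5, 4, true, [11,17,16,14,17,15,14,16,17,16,3,17,6,7,2,13], [12,15,14,15,14,17,16,13,17,15,13,5,15,8,7,4], 7, [([], 175, [12,15,14,16,14,15,17,16,13,15]), ([190,126,125,125], 93, [17,15,14,15])], []⟩
def c191 : Clm := ⟨4, 5, true, [12,15,14,15,14,17,16,13,17,15,13,5,15,8,7,4], [11,17,16,14,17,15,14,16,17,16,3,17,6,7,2,13], 5, [([], 190, [])], []⟩
def c192 : Clm := ⟨1, 7, true, [8,3,1], [], 1, [], []⟩
def c193 : Clm := ⟨7, 1, true, [], [9,4,1,8], 5, [([], 192, [])], []⟩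
def c194 : Clm := ⟨7, 7, false, [], [12], 3, [([], 192, []), ([19,21,24,20,19,24,19,20], 192, [10])], []⟩
def c195 : Clm := ⟨7, 7, false, [], [10,16,14,16,17,16,14,15,14,16], 3, [([], 192, []), ([23,21,22,18,21,23,18,25,23], 192, [12,16,14,16,14,17,16,13,15])], []⟩
def c196 : Clm := ⟨7, 6, true, [13,15,13,16,13,15,13,16,7], [9,16,13,15,13,17,16,13,17,7], 7, [([], 192, []), ([21,24,20,19,22], 61, [14,17,16,13,16,17,15,14])], []⟩
def c197 : Clm := ⟨6, 7, true, [9,16,13,15,13,17,16,13,17,7], [13,15,13,16,13,15,13,16,7], 5, [([], 196, [])], []⟩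
def c198 : Clm := ⟨7, 7, true, [13,15,14,15,13,15,14,7], [9,14,16,13,7], 7, [([], 192, [15]), ([24,18,21], 193, [9,15,14,15,13,15])], []⟩
def c199 : Clm := ⟨7, 7, true, [9,14,16,13,7], [13,15,14,15,13,15,14,7], 5, [([], 198, [])], []⟩
def c200 : Clm := ⟨7, 6, true, [13,15,13,16,13,15,13,7], [10,15,17,16,14,17,16,13,17,16,14,7], 7, [([], 192, [16]), ([19,20,22,25,18], 61, [12,14,16,17,15,13,17,15,14,17,15])], []⟩
def c201 : Clm := ⟨6, 7, true, [10,15,17,16,14,17,16,13,17,16,14,7], [13,15,13,16,13,15,13,7], 5, [([], 200, [])], []⟩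
def c202 : Clm := ⟨7, 3, true, [15,14,16,14,15,14,7], [15,14,15,13,7], 7, [([], 192, [13,16]), ([24,24], 25, [14,16,13,16])], []⟩
def c203 : Clm := ⟨3, 7, true, [15,14,15,13,7], [15,14,16,14,15,14,7], 5, [([], 202, [])], []⟩
def c204 : Clm := ⟨7, 7, true, [15,13,16,13,15,13,7], [9,15,17,16,13,17,16,14,17,16,17,7], 7, [([], 192, [14,16]), ([21,19,20,22,19,22,18], 193, [15,17,15,14,15,17,15,14,15,13,17])], []⟩
def c205 : Clm := ⟨7, 7, true, [9,15,17,16,13,17,16,14,17,16,17,7], [15,13,16,13,15,13,7], 5, [([], 204, [])], []⟩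
def c206 : Clm := ⟨7, 6, true, [10,11,14,16,17,15,13,16,17,7], [9,12,15,14,15,13,17,15,13,16,7], 7, [([], 192, [17,15]), ([21,23,20,25], 61, [14,15,13,17,15,13,16,13,17])], []⟩
def c207 : Clm := ⟨6, 7, true, [9,12,15,14,15,13,17,15,13,16,7], [10,11,14,16,17,15,13,16,17,7], 5, [([], 206, [])], []⟩
def c208 : Clm := ⟨7, 5, true, [9,12,13,15,17,16,14,15,17,7], [12,16,14,17,16,14,15,14,17,15,7], 7, [([], 192, [17,16]), ([21,19,23,20], 47, [10,14,16,13,16,14,17,16,14,16])], []⟩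
def c209 : Clm := ⟨5, 7, true, [12,16,14,17,16,14,15,14,17,15,7], [9,12,13,15,17,16,14,15,17,7], 5, [([], 208, [])], []⟩
def c210 : Clm := ⟨7, 7, true, [10,11,16,17,15,13,16,17,7], [12,14,17,16,14,16,14,17,16,7], 7, [([], 192, [13,17,15]), ([23,25,21,18,23], 193, [9,11,14,16,13,17,15,13,17,15,14])], []⟩
def c211 : Clm := ⟨7, 7, true, [12,14,17,16,14,16,14,17,16,7], [10,11,16,17,15,13,16,17,7], 5, [([], 210, [])], []⟩
def c212 : Clm := ⟨7, 5, true, [9,12,15,17,16,14,15,17,7], [15,14,15,14,17,16,13,7], 7, [([], 192, [14,17,16]), ([19,19,22,21], 47, [15,14,15,17,15,14,15,13,15])], []⟩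
def c213 : Clm := ⟨5, 7, true, [15,14,15,14,17,16,13,7], [9,12,15,17,16,14,15,17,7], 5, [([], 212, [])], []⟩
def c214 : Clm := ⟨7, 6, true, [14,16,14,15,14,7], [9,12,15,17,15,14,17,15,13,15,17,7], 7, [([], 192, [15,13,16]), ([21,25,20,19,22], 61, [10,14,17,16,13,16,14,17,15,13])], []⟩
def c215 : Clm := ⟨6, 7, true, [9,12,15,17,15,14,17,15,13,15,17,7], [14,16,14,15,14,7], 5, [([], 214, [])], []⟩
def c216 : Clm := ⟨7, 6, true, [13,16,13,15,13,7], [12,13,15,13,16,13,15,13,16,2], 7, [([], 192, [15,14,16]), ([23,19,19,23,18,20], 92, [11,15,13,15,13])], []⟩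
def c217 : Clm := ⟨6, 7, true, [12,13,15,13,16,13,15,13,16,2], [13,16,13,15,13,7], 5, [([], 216, [])], []⟩
def c218 : Clm := ⟨7, 4, true, [14,15,14,16,14,7], [10,11,17,16,13,16,13,17,16,14,7], 7, [([], 192, [16,13,15]), ([22,19,21,22,21], 35, [9,12,16,14,17,15,14,17,15])], []⟩
def c219 : Clm := ⟨4, 7, true, [10,11,17,16,13,16,13,17,16,14,7], [14,15,14,16,14,7], 5, [([], 218, [])], []⟩
def c220 : Clm := ⟨7, 6, true, [13,15,13,16,13,7], [10,16,17,15,13,16,13,15,17,2], 7, [([], 192, [16,14,15]), ([24,23,24], 92, [16,13,16,13,17,15,14,17,16,14,15])], []⟩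
def c221 : Clm := ⟨6, 7, true, [10,16,17,15,13,16,13,15,17,2], [13,15,13,16,13,7], 5, [([], 220, [])], []⟩
def c222 : Clm := ⟨7, 5, true, [10,11,15,14,16,17,15,13,16,17,7], [15,14,15,14,17,15,17,7], 7, [([], 192, [16,17,15]), ([23,21,22,18,18,22], 47, [10,12,16,13,16,13,17,16,17])], []⟩
def c223 : Clm := ⟨5, 7, true, [15,14,15,14,17,15,17,7], [10,11,15,14,16,17,15,13,16,17,7], 5, [([], 222, [])], []⟩
def c224 : Clm := ⟨7, 7, true, [13,15,14,16,17,16,13,15,14,7], [9,11,17,15,13,16,14,15,17,16,14,7], 7, [([], 192, [16,17,16]), ([20,25,20,23,18,18], 193, [11,13,16,14,15,17,15,13,15,13,17])], []⟩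
def c225 : Clm := ⟨7, 6, true, [14,16,13,15,13,7], [9,14,16,14,15,2], 7, [([], 192, [13,15,14,16]), ([23,18,18,22,20], 92, [9,14,16,13,16,13])], []⟩
def c226 : Clm := ⟨6, 7, true, [9,14,16,14,15,2], [14,16,13,15,13,7], 5, [([], 225, [])], []⟩
def c227 : Clm := ⟨7, 5, true, [14,16,14,16,13,7], [10,16,13,16,17,16,14,15,17,7], 7, [([], 192, [13,16,13,16]), ([22,24,20,22,19], 47, [12,14,16,14,16,17,16,13,15,17])], []⟩
def c228 : Clm := ⟨5, 7, true, [10,16,13,16,17,16,14,15,17,7], [14,16,14,16,13,7], 5, [([], 227, [])], []⟩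
def c229 : Clm := ⟨7, 6, true, [13,16,13,15,17,15,14,16,13,7], [10,12,15,14,15,13,15,14,7], 7, [([], 192, [14,15,17,15]), ([25,19,20,22,19], 61, [10,12,14,16])], []⟩
def c230 : Clm := ⟨6, 7, true, [10,12,15,14,15,13,15,14,7], [13,16,13,15,17,15,14,16,13,7], 5, [([], 229, [])], []⟩
def c231 : Clm := ⟨7, 6, true, [10,11,15,17,15,13,16,17,7], [10,13,15,14,15,13,15,7], 7, [([], 192, [15,13,17,15]), ([19,22,21,25,20,19], 61, [10,16,13])], []⟩
def c232 : Clm := ⟨6, 7, true, [10,13,15,14,15,13,15,7], [10,11,15,17,15,13,16,17,7], 5, [([], 231, [])], []⟩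
def c233 : Clm := ⟨7, 6, true, [10,11,17,15,13,16,17,7], [9,16,13,17,16,14,15,17,15,13,17,16,7], 7, [([], 192, [16,13,17,15]), ([22,21,22,24,21], 61, [10,12,13,16,13,16,17,15,14,15])], []⟩
def c234 : Clm := ⟨6, 7, true, [9,16,13,17,16,14,15,17,15,13,17,16,7], [10,11,17,15,13,16,17,7], 5, [([], 233, [])], []⟩
def c235 : Clm := ⟨7, 6, true, [10,11,14,16,17,15,13,16,13,17,15,7], [10,14,15,14,15,14,17,15,14,15,2], 7, [([], 192, [17,15,13,16]), ([18,23,19,20,19,23], 92, [11,13,16,14,16,17,16,13,17])], []⟩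
def c236 : Clm := ⟨6, 7, true, [10,14,15,14,15,14,17,15,14,15,2], [10,11,14,16,17,15,13,16,13,17,15,7], 5, [([], 235, [])], []⟩
def c237 : Clm := ⟨7, 5, true, [9,12,13,15,17,16,14,15,14,17,16,7], [11,13,17,15,14,17,16,7], 7, [([], 192, [17,16,14,15]), ([19,19,22,19,20], 47, [16,14,15,17,15,13,17,15,13,17])], []⟩
def c238 : Clm := ⟨5, 7, true, [11,13,17,15,14,17,16,7], [9,12,13,15,17,16,14,15,14,17,16,7], 5, [([], 237, [])], []⟩
def c239 : Clm := ⟨7, 5, true, [9,12,13,15,17,16,14,15,14,17,15,7], [10,12,13,17,16,13,17,16,14,16,7], 7, [([], 192, [17,16,14,16]), ([25,23,18,25,23,18], 47, [9,16,17,15,14,15,14,17])], []⟩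
def c240 : Clm := ⟨5, 7, true, [10,12,13,17,16,13,17,16,14,16,7], [9,12,13,15,17,16,14,15,14,17,15,7], 5, [([], 239, [])], []⟩
def c241 : Clm := ⟨7, 6, true, [9,12,13,17,16,14,15,17,7], [17,15,14,17,16,13,17,16,13,16,7], 7, [([], 192, [13,15,14,17,16]), ([21,19,23,19], 61, [9,12,15,13,15,14,17,15,14])], []⟩
def c242 : Clm := ⟨6, 7, true, [17,15,14,17,16,13,17,16,13,16,7], [9,12,13,17,16,14,15,17,7], 5, [([], 241, [])], []⟩
def c243 : Clm := ⟨7, 6, true, [9,12,14,17,16,14,15,17,7], [11,16,13,15,17,16,14,17,2], 7, [([], 192, [14,15,14,17,16]), ([22,22,18,20,18], 92, [10,13,15,14,17,16,13,16,13])], []⟩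
def c244 : Clm := ⟨6, 7, true, [11,16,13,15,17,16,14,17,2], [9,12,14,17,16,14,15,17,7], 5, [([], 243, [])], []⟩
def c245 : Clm := ⟨7, 6, true, [10,11,14,17,15,13,16,17,7], [9,12,14,15,14,17,15,13,17,15,2], 7, [([], 192, [14,16,13,17,15]), ([23,18,25,21,18], 92, [9,13,17,15,14,17,16,14,15,17,15,14])], []⟩
def c246 : Clm := ⟨6, 7, true, [9,12,14,15,14,17,15,13,17,15,2], [10,11,14,17,15,13,16,17,7], 5, [([], 245, [])], []⟩
def c247 : Clm := ⟨6, 7, true, [14,15,17,15,13,15,14,15,17,16,1,17,5,7,16], [11,15,14,16,14,15,14,7,5], 7, [([], 97, [9,14,15,17,15,13,17,16,14]), ([191,124,124], 196, [14,15])], []⟩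
def c248 : Clm := ⟨7, 6, true, [11,15,14,16,14,15,14,7,5], [14,15,17,15,13,15,14,15,17,16,1,17,5,7,16], 5, [([], 247, [])], []⟩
def c249 : Clm := ⟨6, 7, true, [9,13,16,14,16,14,17,16,13,17,15,13,4,8,17,6,8], [12,15,13,15,14,15,13,15,17,15,7,5], 7, [([], 129, [11,15,14,15,14,17,15,13,17,15,17]), ([191,127,190,190,124], 196, [17,15])], []⟩
def c250 : Clm := ⟨7, 6, true, [12,15,13,15,14,15,13,15,17,15,7,5], [9,13,16,14,16,14,17,16,13,17,15,13,4,8,17,6,8], 5, [([], 249, [])], []⟩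
def c251 : Clm := ⟨7, 7, false, [13,15,13,16,13,15,13,16,17,7,16], [10,11,15,13,17,15,17,1,8,13,15,7,3], 6, [([], 196, [17,16]), ([126,124], 106, [9,11,15,14,15,13,15,14,17,15,13]), ([191,126,190,124], 217, [10,15,13,17,15,17])], []⟩
def c252 : Clm := ⟨5, 7, true, [9,11,17,15,13,16,14,17,8,7,5,11], [10,14,17,16,13,1,2,12,17], 7, [([], 131, [15,14,15,14,17,15,14,16,14]), ([190,125], 196, [13,15,17,15])], []⟩
def c253 : Clm := ⟨7, 5, true, [10,14,17,16,13,1,2,12,17], [9,11,17,15,13,16,14,17,8,7,5,11], 5, [([], 252, [])], []⟩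
def c254 : Clm := ⟨7, 7, true, [9,15,13,15,17,15,13,16,13,17,15,17,1,8,17,8], [13,15,14,17,16,14,16,14,17,15,1,17,2,8,15], 7, [([], 244, [17,16,13,15,13,16,17,15,13,16]), ([125,125], 196, [15,17,16])], []⟩
def c255 : Clm := ⟨7, 7, true, [13,15,14,17,16,14,16,14,17,15,1,17,2,8,15], [9,15,13,15,17,15,13,16,13,17,15,17,1,8,17,8], 5, [([], 254, [])], []⟩
def c256 : Clm := ⟨6, 7, true, [14,15,13,17,15,14,16,17,16,14,5,17,2,15,7], [12,13,16,1,7,15], 7, [([], 96, [10,17,16,13,15,14,16,17,16]), ([125,125], 196, [14,16,13,15])], []⟩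
def c257 : Clm := ⟨7, 6, true, [12,13,16,1,7,15], [14,15,13,17,15,14,16,17,16,14,5,17,2,15,7], 5, [([], 256, [])], []⟩
def c258 : Clm := ⟨6, 7, true, [11,14,15,17,15,14,17,16,13,16,17,3,1,17,2,4], [9,11,16,14,17,16,13,17,15,14,2,8,7,8,12], 7, [([], 129, [14,15,13,16,14,17,15,14,15,14]), ([124,124], 196, [15,13,17,16])], []⟩
def c259 : Clm := ⟨7, 6, true, [9,11,16,14,17,16,13,17,15,14,2,8,7,8,12], [11,14,15,17,15,14,17,16,13,16,17,3,1,17,2,4], 5, [([], 258, [])], []⟩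
def c260 : Clm := ⟨5, 7, true, [15,17,15,13,15,14,15,17,15,17,1,16,8,13,3,13], [10,11,15,13,16,14,15,17,15,14,5,15,17,2,17], 7, [([], 121, [9,13,16,17,15,14,17,16,13,15]), ([126,190,190,127,190], 196, [13,15,14,17,15])], []⟩
def c261 : Clm := ⟨7, 5, true, [10,11,15,13,16,14,15,17,15,14,5,15,17,2,17], [15,17,15,13,15,14,15,17,15,17,1,16,8,13,3,13], 5, [([], 260, [])], []⟩
def c262 : Clm := ⟨6, 7, true, [9,15,13,16,17,16,13,16,14,17,15,1,8,6,14,4,14], [14,16,17,16,14,17,16,14,17,8,12,13,8], 7, [([], 125, [10,11,13,16,13,17,16,14,16,14]), ([124], 196, [14,15,14,17,16])], []⟩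
def c263 : Clm := ⟨7, 6, true, [14,16,17,16,14,17,16,14,17,8,12,13,8], [9,15,13,16,17,16,13,16,14,17,15,1,8,6,14,4,14], 5, [([], 262, [])], []⟩
def c264 : Clm := ⟨5, 7, true, [9,13,17,16,14,15,13,16,17,16,3,6,17,2,3], [12,15,13,17,15,14,15,14,17,1,17,15,2,17], 7, [([], 131, [10,11,16,17,15,14,17,15,14,15,17]), ([127,190,190,125,125], 196, [14,16,13,17,15])], []⟩
def c265 : Clm := ⟨7, 5, true, [12,15,13,17,15,14,15,14,17,1,17,15,2,17], [9,13,17,16,14,15,13,16,17,16,3,6,17,2,3], 5, [([], 264, [])], []⟩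
def c266 : Clm := ⟨6, 7, true, [15,17,16,13,16,17,16,14,15,2,8,12,1], [15,13,16,13,15,13,16,17,16,13,16,13,6,2], 7, [([], 124, [9,11,15,14,17,15,13,16,14]), ([191,191,125,125], 196, [13,17,15,13,15])], []⟩
def c267 : Clm := ⟨7, 6, true, [15,13,16,13,15,13,16,17,16,13,16,13,6,2], [15,17,16,13,16,17,16,14,15,2,8,12,1], 5, [([], 266, [])], []⟩
def c268 : Clm := ⟨6, 7, true, [9,14,15,13,15,14,17,15,13,16,17,15,1,7], [9,11,15,13,17,16,14,16,17,5,17,15,7,11], 7, [([], 196, [17,16,13,15]), ([388,502], 198, [9,14,15,13,17,16,13,16,13])], []⟩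
def c269 : Clm := ⟨7, 6, true, [9,11,15,13,17,16,14,16,17,5,17,15,7,11], [9,14,15,13,15,14,17,15,13,16,17,15,1,7], 5, [([], 268, [])], []⟩
def c270 : Clm := ⟨1, 7, true, [9,13,16,17,16,14,17,15,17,4,8,13,4], [16,13,15,14,16,2,7], 7, [([], 92, [11,13,16,14,17,15,13,15,14]), ([], 196, [15,13,16,14,15])], []⟩
def c271 : Clm := ⟨7, 1, true, [16,13,15,14,16,2,7], [9,13,16,17,16,14,17,15,17,4,8,13,4], 5, [([], 270, [])], []⟩
def c272 : Clm := ⟨7, 7, true, [10,11,15,14,15,13,15,14,17,15,8,7,15,2], [11,15,14,16,13,15,17,15,14,5,15,17,2], 7, [([], 262, [9,11,16,14,16,17,16,13,17,16,14]), ([126,190], 196, [13,15,14,16,17,16])], []⟩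
def c273 : Clm := ⟨7, 7, true, [11,15,14,16,13,15,17,15,14,5,15,17,2], [10,11,15,14,15,13,15,14,17,15,8,7,15,2], 5, [([], 272, [])], []⟩
def c274 : Clm := ⟨6, 7, true, [14,16,14,16,13,17,16,14,16,14,1,4,17,2,1,17], [9,11,15,13,15,14,15,13,15,17,16,13,1,16,17,16,2], 7, [([], 105, [10,17,16,14,17,15,14,16]), ([124,124], 196, [15,17,15,13,15])], []⟩
def c275 : Clm := ⟨7, 6, true, [9,11,15,13,15,14,15,13,15,17,16,13,1,16,17,16,2], [14,16,14,16,13,17,16,14,16,14,1,4,17,2,1,17], 5, [([], 274, [])], []⟩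
def c276 : Clm := ⟨6, 7, true, [13,15,14,16,17,16,13,15,17,1,4,6,8], [10,12,16,17,15,14,17,15,14,17,5,17,15,7,11], 7, [([], 125, [14,15,14,15,13,17]), ([190,126,191], 196, [14,15,17,15,13,16])], []⟩
def c277 : Clm := ⟨7, 6, true, [10,12,16,17,15,14,17,15,14,17,5,17,15,7,11], [13,15,14,16,17,16,13,15,17,1,4,6,8], 5, [([], 276, [])], []⟩
def c278 : Clm := ⟨4, 7, true, [9,11,14,15,17,15,14,17,16,3,11,17,16,8,7], [10,12,17,16,13,15,13,16,1,2,1,17,15,7], 7, [([], 101, [10,14,17,16,14,15,17]), ([125], 196, [14,15,17,15,14,15])], []⟩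
def c279 : Clm := ⟨7, 4, true, [10,12,17,16,13,15,13,16,1,2,1,17,15,7], [9,11,14,15,17,15,14,17,16,3,11,17,16,8,7], 5, [([], 278, [])], []⟩
def c280 : Clm := ⟨5, 7, true, [10,14,17,16,14,16,14,17,16,14,15,8,11,1,13,6], [10,16,14,17,15,14,17,15,14,16,5,17,5,15,2], 7, [([], 119, [9,16,14,16,13,17,15,14,15]), ([127,191,191,125], 196, [13,15,17,15,14,16])], []⟩
def c281 : Clm := ⟨7, 5, true, [10,16,14,17,15,14,17,15,14,16,5,17,5,15,2], [10,14,17,16,14,16,14,17,16,14,15,8,11,1,13,6], 5, [([], 280, [])], []⟩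
def c282 : Clm := ⟨3, 7, true, [11,14,16,17,16,14,15,17,4,17,5,7,8], [9,16,13,15,14,16,17,15,13,16,1,2,12,17], 7, [([], 149, [9,11,14,16,17,16,14,16,13,16]), ([125], 196, [14,15,17,16,14,16])], []⟩
def c283 : Clm := ⟨7, 3, true, [9,16,13,15,14,16,17,15,13,16,1,2,12,17], [11,14,16,17,16,14,15,17,4,17,5,7,8], 5, [([], 282, [])], []⟩
def c284 : Clm := ⟨6, 7, true, [9,13,15,14,17,16,14,17,16,13,16,1,8,11,13,15], [11,15,17,16,14,15,13,17,16,13,15,13,7,5,17], 7, [([], 108, [9,12,15,14,16,14,17,15,13,16,13]), ([191,124], 196, [14,16,17,15,13,15])], []⟩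
def c285 : Clm := ⟨7, 6, true, [11,15,17,16,14,15,13,17,16,13,15,13,7,5,17], [9,13,15,14,17,16,14,17,16,13,16,1,8,11,13,15], 5, [([], 284, [])], []⟩
def c286 : Clm := ⟨5, 7, true, [12,15,17,16,14,17,15,14,15,17,15,1,6,17,3,14], [11,13,15,17,16,14,15,14,17,5,13,17,15,7], 7, [([], 137, [15,14,16,17,15,13,15,13,17]), ([127,191,191,126,190], 196, [13,16,17,15,13,16])], []⟩
def c287 : Clm := ⟨7, 5, true, [11,13,15,17,16,14,15,14,17,5,13,17,15,7], [12,15,17,16,14,17,15,14,15,17,15,1,6,17,3,14], 5, [([], 286, [])], []⟩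
def c288 : Clm := ⟨6, 7, true, [17,16,13,15,17,15,14,17,15,1,17,8,16,2], [12,13,16,14,17,16,13,16,14,17,7,5,17], 7, [([], 128, [12,16,13,17,15,14,15,14,17,16,14]), ([190,126,191,125], 196, [16,17,15,14,15])], []⟩
def c289 : Clm := ⟨7, 6, true, [12,13,16,14,17,16,13,16,14,17,7,5,17], [17,16,13,15,17,15,14,17,15,1,17,8,16,2], 5, [([], 288, [])], []⟩
def c290 : Clm := ⟨6, 7, true, [16,13,17,15,14,15,17,16,13,16,14,1,17,15,7,12], [16,13,15,14,16,17,16,14,17,16,8,12,17,8], 7, [([], 196, [16,17,15,14,16]), ([388,503,389,502], 254, [12,15,13,16,13,17,16,13,15,14])], []⟩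
def c291 : Clm := ⟨7, 6, true, [16,13,15,14,16,17,16,14,17,16,8,12,17,8], [16,13,17,15,14,15,17,16,13,16,14,1,17,15,7,12], 5, [([], 290, [])], []⟩
def c292 : Clm := ⟨7, 7, true, [9,12,14,16,13,16,14,17,16,13,16,8,16,3,15,13], [17,16,14,16,17,16,13,17,15,8,11,14,8], 7, [([], 249, [12,17,15,14,17,16,13,17,16,13]), ([125,125], 196, [13,16,17,16,13,16])], []⟩
def c293 : Clm := ⟨7, 7, true, [17,16,14,16,17,16,13,17,15,8,11,14,8], [9,12,14,16,13,16,14,17,16,13,16,8,16,3,15,13], 5, [([], 292, [])], []⟩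
def c294 : Clm := ⟨7, 7, true, [11,16,17,16,14,17,15,13,16,17,15,5,8,11,8,17], [10,15,13,15,17,15,14,17,15,13,16,2,8,7,8], 7, [([], 266, [11,13,15,17,15,13,15,17,15]), ([190,126,191,124,124], 196, [16,17,16,14,16])], []⟩
def c295 : Clm := ⟨7, 7, true, [10,15,13,15,17,15,14,17,15,13,16,2,8,7,8], [11,16,17,16,14,17,15,13,16,17,15,5,8,11,8,17], 5, [([], 294, [])], []⟩
def c296 : Clm := ⟨6, 7, true, [9,15,17,15,13,15,14,15,13,17,16,14,8,6,13,3,16], [13,15,14,15,17,15,13,2,8,7,8,12], 7, [([], 105, [9,15,14,16,13,17,15,14,15,17]), ([], 196, [14,17,15,13,17,16])], []⟩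
def c297 : Clm := ⟨7, 6, true, [13,15,14,15,17,15,13,2,8,7,8,12], [9,15,17,15,13,15,14,15,13,17,16,14,8,6,13,3,16], 5, [([], 296, [])], []⟩
def c298 : Clm := ⟨6, 7, true, [9,13,16,14,16,17,16,14,15,1,3,17,16,1,4,5], [15,14,15,14,17,16,14,17,16,13,5,15,17,2,17], 7, [([], 151, [9,14,16,13,16,17,16,13,17,16]), ([191,124,124], 196, [14,17,15,14,17,15])], []⟩
def c299 : Clm := ⟨7, 6, true, [15,14,15,14,17,16,14,17,16,13,5,15,17,2,17], [9,13,16,14,16,17,16,14,15,1,3,17,16,1,4,5], 5, [([], 298, [])], []⟩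
def c300 : Clm := ⟨7, 7, true, [9,14,16,14,15,14,17,15,14,15,17,7,8,16,4,8], [9,13,15,14,16,17,16,13,17,16,13,5,17,5,7,17], 7, [([], 266, [9,12,14,16,17,16,14,17,16]), ([125,125], 196, [14,17,16,14,17,15])], []⟩
def c301 : Clm := ⟨7, 7, true, [9,13,15,14,16,17,16,13,17,16,13,5,17,5,7,17], [9,14,16,14,15,14,17,15,14,15,17,7,8,16,4,8], 5, [([], 300, [])], []⟩
def c302 : Clm := ⟨6, 7, true, [11,14,16,14,16,14,17,15,5,15,17,2], [12,13,16,13,17,16,13,15,13,16,17,3,17,8,17,15], 7, [([], 196, [17,16,14,17,16]), ([502,388,503,388], 300, [16,13,16,14,16])], []⟩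
def c303 : Clm := ⟨7, 6, true, [12,13,16,13,17,16,13,15,13,16,17,3,17,8,17,15], [11,14,16,14,16,14,17,15,5,15,17,2], 5, [([], 302, [])], []⟩
def c304 : Clm := ⟨7, 7, true, [15,13,17,15,14,17,15,14,16,17,4,8,7,16,13], [10,14,17,15,14,15,14,17,16,17,6,17,2,17], 7, [([], 290, [9,14,17,15,14,16,17,15,17]), ([190,127,191,124], 196, [15,13,16,17,16])], []⟩
def c305 : Clm := ⟨7, 7, true, [10,14,17,15,14,15,14,17,16,17,6,17,2,17], [15,13,17,15,14,17,15,14,16,17,4,8,7,16,13], 5, [([], 304, [])], []⟩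
def c306 : Clm := ⟨6, 7, true, [14,16,14,17,16,13,15,17,16,8,17,2,1], [10,12,17,16,13,15,13,17,16,14,15,1,17,6,2,14], 7, [([], 196, [13,15,17,16,13,15]), ([389,503,388,502,388], 293, [12,15,17,16,14,16,13,17])], []⟩
def c307 : Clm := ⟨7, 6, true, [10,12,17,16,13,15,13,17,16,14,15,1,17,6,2,14], [14,16,14,17,16,13,15,17,16,8,17,2,1], 5, [([], 306, [])], []⟩
def c308 : Clm := ⟨7, 7, true, [10,11,13,16,14,16,13,17,15,13,15,13,2,4,11,8,16], [13,15,13,15,17,15,13,17,16,14,17,6,13,17,16,2], 7, [([], 290, [13,16,13,15,17,15,14,15,14,17,16]), ([190,127,191,191,124], 196, [15,17,16,14,15])], []⟩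
def c309 : Clm := ⟨7, 7, true, [13,15,13,15,17,15,13,17,16,14,17,6,13,17,16,2], [10,11,13,16,14,16,13,17,15,13,15,13,2,4,11,8,16], 5, [([], 308, [])], []⟩
def c310 : Clm := ⟨5, 7, true, [9,12,17,15,13,16,17,16,14,16,14,5,13,17,1,7], [16,17,15,13,15,17,15,13,15,13,17,5,17,5,7,17], 7, [([], 137, [15,13,16,13,17,16,13,16,17]), ([191,191,127,190], 196, [13,15,13,17,15,14,16])], []⟩
def c311 : Clm := ⟨7, 5, true, [16,17,15,13,15,17,15,13,15,13,17,5,17,5,7,17], [9,12,17,15,13,16,17,16,14,16,14,5,13,17,1,7], 5, [([], 310, [])], []⟩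
def c312 : Clm := ⟨6, 7, true, [12,13,16,14,17,16,14,17,3,7,17,16,13,1], [11,13,15,13,15,13,17,15,14,17,16,13,5,17,15,7,11], 7, [([], 151, [16,13,17,15,14,17,16,14,17,16]), ([191,191,126,190], 196, [13,15,17,15,13,17,16])], []⟩
def c313 : Clm := ⟨7, 6, true, [11,13,15,13,15,13,17,15,14,17,16,13,5,17,15,7,11], [12,13,16,14,17,16,14,17,3,7,17,16,13,1], 5, [([], 312, [])], []⟩
def c314 : Clm := ⟨7, 7, true, [11,15,17,16,14,17,15,13,15,14,6,8,6,14,1], [12,13,17,15,14,15,17,15,14,15,13,5,17,5,15,2], 7, [([], 302, [12,13,16,13,15,13,17,15,14,15]), ([126,190,190,127,190], 196, [13,15,17,15,14,17,16])], []⟩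
def c315 : Clm := ⟨7, 7, true, [12,13,17,15,14,15,17,15,14,15,13,5,17,5,15,2], [11,15,17,16,14,17,15,13,15,14,6,8,6,14,1], 5, [([], 314, [])], []⟩
def c316 : Clm := ⟨6, 7, true, [12,14,17,16,14,17,15,13,17,16,1,17,15,7,12], [16,14,17,15,14,17,16,13,16,3,1,17,1,3], 7, [([], 196, [15,17,16,13,17,16]), ([502,389,503], 314, [16,17,15,13,17,15,14,17])], []⟩
def c317 : Clm := ⟨7, 6, true, [16,14,17,15,14,17,16,13,16,3,1,17,1,3], [12,14,17,16,14,17,15,13,17,16,1,17,15,7,12], 5, [([], 316, [])], []⟩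
def c318 : Clm := ⟨6, 7, true, [10,11,13,17,15,13,16,17,16,8,17,2,1], [10,15,14,17,16,14,15,17,15,13,16,5,17,16,5,7], 7, [([], 196, [16,17,15,13,17,15]), ([388,502,389,502,388,503], 301, [11,14,15,13,17,15,13,17])], []⟩
def c319 : Clm := ⟨7, 6, true, [10,15,14,17,16,14,15,17,15,13,16,5,17,16,5,7], [10,11,13,17,15,13,16,17,16,8,17,2,1], 5, [([], 318, [])], []⟩
def c320 : Clm := ⟨7, 7, true, [9,11,13,17,16,14,17,15,17,1,6,7,8,6,2], [13,17,15,13,17,16,14,15,17,1,6,8,5,6], 7, [([], 236, [10,13,15,13,16,13,17,15,13,17,16]), ([125,125], 196, [15,14,15,17,15,13,15])], []⟩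
def c321 : Clm := ⟨7, 7, true, [13,17,15,13,17,16,14,15,17,1,6,8,5,6], [9,11,13,17,16,14,17,15,17,1,6,7,8,6,2], 5, [([], 320, [])], []⟩
def c322 : Clm := ⟨6, 7, true, [12,17,16,13,16,17,16,14,15,5,13,8,16], [11,17,16,14,15,13,16,17,15,1,5,15,17], 7, [([], 196, [15,14,17,15,14,17,16]), ([389,502,389,502,391,388], 301, [16,17,15,13,15,14,15,17,15,14])], []⟩
def c323 : Clm := ⟨7, 6, true, [11,17,16,14,15,13,16,17,15,1,5,15,17], [12,17,16,13,16,17,16,14,15,5,13,8,16], 5, [([], 322, [])], []⟩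
def c324 : Clm := ⟨7, 7, true, [9,14,16,17,15,13,17,15,14,17,15,14,6,17,2,17], [14,15,14,15,17,16,13,17,16,13,5,17,16,4], 7, [([], 197, [15,17,15,13,16]), ([127,191,126,125], 291, [9,14,17,15,14,15,14,17,16,17])], []⟩
def c325 : Clm := ⟨7, 7, true, [14,15,14,15,17,16,13,17,16,13,5,17,16,4], [9,14,16,17,15,13,17,15,14,17,15,14,6,17,2,17], 5, [([], 324, [])], []⟩
def c326 : Clm := ⟨7, 7, true, [10,15,13,17,15,14,15,14,8,17,1], [9,16,14,15,17,15,14,17,15,13,1,4,13,17,5,6], 7, [([], 197, [16,17,15,14,15]), ([125,125], 319, [9,13,16,14,16,17,16,14,16,17])], []⟩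
def c327 : Clm := ⟨7, 7, true, [9,16,14,15,17,15,14,17,15,13,1,4,13,17,5,6], [10,15,13,17,15,14,15,14,8,17,1], 5, [([], 326, [])], []⟩
def c328 : Clm := ⟨7, 7, true, [10,11,16,13,15,13,17,15,13,15,17,1,13,17,16,7], [14,15,13,16,17,15,14,17,15,4,17,1,2,8], 7, [([], 197, [15,17,15,14,17,16]), ([127,190,127,191,127,124], 323, [10,11,16,13,17,16,13,17,15,13,16])], []⟩
def c329 : Clm := ⟨7, 7, true, [14,15,13,16,17,15,14,17,15,4,17,1,2,8], [10,11,16,13,15,13,17,15,13,15,17,1,13,17,16,7], 5, [([], 328, [])], []⟩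
def c330 : Clm := ⟨6, 7, true, [12,17,15,14,15,13,15,17,15,17,3,17,8,7,13,8], [11,13,15,14,15,13,15,17,15,7,5], 7, [([], 297, [12,16,17,15,13,16,13,15,13]), ([389,503,388,503,391], 198, [14,17,15])], []⟩
def c331 : Clm := ⟨7, 6, true, [11,13,15,14,15,13,15,17,15,7,5], [12,17,15,14,15,13,15,17,15,17,3,17,8,7,13,8], 5, [([], 330, [])], []⟩
def c332 : Clm := ⟨6, 7, true, [9,11,15,14,17,15,13,16,13,17,5,17,3,1], [11,14,15,14,6,2], 7, [([], 299, [9,12,13,16,14,17,16,13,15,17]), ([503,388,503,391], 198, [14,15,13,15])], []⟩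
def c333 : Clm := ⟨7, 6, true, [11,14,15,14,6,2], [9,11,15,14,17,15,13,16,13,17,5,17,3,1], 5, [([], 332, [])], []⟩
def c334 : Clm := ⟨7, 7, true, [9,16,13,17,15,13,16,14,17,15,1,17,3,13,8,14], [16,14,16,13,16,3,11,15], 7, [([], 315, [9,17,15,13,16,14,17,16,13,17]), ([389,503,388,503,391], 198, [15,14,15])], []⟩
def c335 : Clm := ⟨7, 7, true, [16,14,16,13,16,3,11,15], [9,16,13,17,15,13,16,14,17,15,1,17,3,13,8,14], 5, [([], 334, [])], []⟩
def c336 : Clm := ⟨7, 7, true, [9,12,14,15,14,15,17,15,14,15,1,5,15,8,6], [10,14,16,14,17,16,13,16,13,17,3,1,17,15,7], 7, [([], 198, [15,17,16]), ([502,390,388], 305, [11,14,16,13,17,15,13,17,15,13,15])], []⟩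
def c337 : Clm := ⟨7, 7, true, [10,14,16,14,17,16,13,16,13,17,3,1,17,15,7], [9,12,14,15,14,15,17,15,14,15,1,5,15,8,6], 5, [([], 336, [])], []⟩
def c338 : Clm := ⟨5, 7, true, [10,16,13,16,14,17,16,14,17,15,14,2,5], [9,15,14,17,16,13,17,15,14,2,8,7,8,12], 7, [([], 227, [9,14,17,15,13,16,14]), ([502,391,391], 198, [14,15,13,17,16])], []⟩
def c339 : Clm := ⟨7, 5, true, [9,15,14,17,16,13,17,15,14,2,8,7,8,12], [10,16,13,16,14,17,16,14,17,15,14,2,5], 5, [([], 338, [])], []⟩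
def c340 : Clm := ⟨7, 7, true, [10,14,16,14,17,16,1,15,5,17], [10,16,13,17,16,13,15,13,17,16,1,4,8,11,8,16], 7, [([], 198, [15,14,17,16]), ([389,502,389,503,389], 314, [10,11,14,17,16,13,16,17,16,13,17])], []⟩
def c341 : Clm := ⟨7, 7, true, [10,16,13,17,16,13,15,13,17,16,1,4,8,11,8,16], [10,14,16,14,17,16,1,15,5,17], 5, [([], 340, [])], []⟩
def c342 : Clm := ⟨5, 7, true, [11,17,16,14,17,16,14,17,15,13,17,8,6,12,5,17], [11,13,17,15,14,15,14,17,1,17,15,2,17], 7, [([], 261, [12,17,15,14,15,13,15,17,15,13]), ([503,388,503,391], 198, [13,16,13,17,15])], []⟩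
def c343 : Clm := ⟨7, 5, true, [11,13,17,15,14,15,14,17,1,17,15,2,17], [11,17,16,14,17,16,14,17,15,13,17,8,6,12,5,17], 5, [([], 342, [])], []⟩
def c344 : Clm := ⟨7, 7, true, [10,11,15,17,16,14,17,16,13,17,16,13,1,6,17,2], [10,14,16,13,17,15,13,16,13,17,1,7], 7, [([], 300, [12,16,13,15,17,15,13,17,16,14,16]), ([503,389,502,390], 198, [14,17,15,13,16])], []⟩
def c345 : Clm := ⟨7, 7, true, [10,14,16,13,17,15,13,16,13,17,1,7], [10,11,15,17,16,14,17,16,13,17,16,13,1,6,17,2], 5, [([], 344, [])], []⟩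
def c346 : Clm := ⟨5, 7, true, [9,12,13,16,13,16,13,17,16,14,17,3,8,14,6,13], [10,16,14,17,15,14,15,14,17,16,17,6,17,2,17], 7, [([], 253, [12,13,16,14,16,17,15,13,17,15,13]), ([388,502], 198, [15,13,16,17,16])], []⟩
def c347 : Clm := ⟨7, 5, true, [10,16,14,17,15,14,15,14,17,16,17,6,17,2,17], [9,12,13,16,13,16,13,17,16,14,17,3,8,14,6,13], 5, [([], 346, [])], []⟩
def c348 : Clm := ⟨5, 7, true, [10,14,16,13,17,16,14,15,1,7,12], [10,13,17,16,14,16,13,16,17,16,13,6,13,17,16,2], 7, [([], 208, [9,11,14,15,13,16,17,16,14,16,13,17]), ([502,391], 198, [14,15,17,16,13,15])], []⟩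
def c349 : Clm := ⟨7, 5, true, [10,13,17,16,14,16,13,16,17,16,13,6,13,17,16,2], [10,14,16,13,17,16,14,15,1,7,12], 5, [([], 348, [])], []⟩
def c350 : Clm := ⟨7, 6, true, [9,15,13,17,16,14,16,14,17,15,13,8,17,15], [11,13,15,13,17,16,13,15,14,3,8,12,8,6,12], 7, [([], 198, [16,17,16,14,16]), ([390], 262, [10,11,13,15,14,17,16,13,16,13,17])], []⟩
def c351 : Clm := ⟨6, 7, true, [11,13,15,13,17,16,13,15,14,3,8,12,8,6,12], [9,15,13,17,16,14,16,14,17,15,13,8,17,15], 5, [([], 350, [])], []⟩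
def c352 : Clm := ⟨6, 7, true, [9,14,16,14,16,17,16,13,17,15,1,17,3,12,16,17], [12,14,15,14,17,16,14,17,16,13,5,15,17,2,17], 7, [([], 257, [17,16,14,15,14,17,16,14,15]), ([502], 198, [13,17,15,14,17,15])], []⟩
def c353 : Clm := ⟨7, 6, true, [12,14,15,14,17,16,14,17,16,13,5,15,17,2,17], [9,14,16,14,16,17,16,13,17,15,1,17,3,12,16,17], 5, [([], 352, [])], []⟩
def c354 : Clm := ⟨7, 5, true, [10,12,16,13,17,16,13,16,17,16,14,1,15,5,17], [15,13,15,17,16,13,15,14,3,17,3,12,16], 7, [([], 198, [16,13,17,16,14,15]), ([502,389,503,388,503,388], 342, [17,15,14,15,13,17])], []⟩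
def c355 : Clm := ⟨5, 7, true, [15,13,15,17,16,13,15,14,3,17,3,12,16], [10,12,16,13,17,16,13,16,17,16,14,1,15,5,17], 5, [([], 354, [])], []⟩
def c356 : Clm := ⟨5, 7, true, [12,17,16,13,16,14,17,15,14,15,3,17,16,1,4], [15,13,17,15,14,17,15,13,15,5,13,17,15,7], 7, [([], 347, [9,11,15,17,16,14,17,16,13,17,16]), ([389,503,391,391], 199, [14,16,17,15,14,16])], []⟩
def c357 : Clm := ⟨7, 5, true, [15,13,17,15,14,17,15,13,15,5,13,17,15,7], [12,17,16,13,16,14,17,15,14,15,3,17,16,1,4], 5, [([], 356, [])], []⟩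
def c358 : Clm := ⟨6, 7, true, [11,14,17,15,14,16,14,17,15,13,17,5,1,17,5], [10,17,15,13,15,17,15,13,17,16,13,6,17,2], 7, [([], 98, [11,14,16,17,16,13,17,16,14,17]), ([190,126,190,190], 200, [15,13,17,15])], []⟩
def c359 : Clm := ⟨7, 6, true, [10,17,15,13,15,17,15,13,17,16,13,6,17,2], [11,14,17,15,14,16,14,17,15,13,17,5,1,17,5], 5, [([], 358, [])], []⟩
def c360 : Clm := ⟨7, 7, true, [10,11,13,16,13,16,17,15,17,8,7,4,11,8,7], [10,17,15,14,17,15,14,17,5,17,15,7,11], 7, [([], 352, [10,11,15,17,16,14,15,13,16]), ([127,190,190,124], 200, [15,17,15,13,16])], []⟩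
def c361 : Clm := ⟨7, 7, true, [10,17,15,14,17,15,14,17,5,17,15,7,11], [10,11,13,16,13,16,17,15,17,8,7,4,11,8,7], 5, [([], 360, [])], []⟩
def c362 : Clm := ⟨3, 7, true, [9,11,16,14,16,17,15,13,15,13,6,13,17,2], [9,12,17,16,14,16,14,17,15,14,17,1,3,13,17,2,7], 7, [([], 202, [15,14,16,17,16]), ([503,389,502,389,503,390,388], 315, [16,17,15,14,16,14,15,17,16,13])], []⟩
def c363 : Clm := ⟨7, 3, true, [9,12,17,16,14,16,14,17,15,14,17,1,3,13,17,2,7], [9,11,16,14,16,17,15,13,15,13,6,13,17,2], 5, [([], 362, [])], []⟩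
def c364 : Clm := ⟨6, 7, true, [11,14,15,13,16,13,17,15,14,17,1,2,3,17,5], [15,17,16,13,16,14,16,17,15,5,13,17,15,7], 7, [([], 89, [12,17,15,14,16,17,16,13,16,14]), ([59,55,67,54,66,56], 202, [13,16,17,15,13,16])], []⟩
def c365 : Clm := ⟨7, 6, true, [15,17,16,13,16,14,16,17,15,5,13,17,15,7], [11,14,15,13,16,13,17,15,14,17,1,2,3,17,5], 5, [([], 364, [])], []⟩
def c366 : Clm := ⟨5, 7, true, [14,15,17,15,14,17,16,13,17,4,16,17,16,14,8], [11,15,13,17,15,13,17,16,13,17,16,7,5,17], 7, [([], 131, [10,11,13,15,17,16,13,15,13,16]), ([126,191,191,124], 206, [13,16,17,16])], []⟩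
def c367 : Clm := ⟨7, 5, true, [11,15,13,17,15,13,17,16,13,17,16,7,5,17], [14,15,17,15,14,17,16,13,17,4,16,17,16,14,8], 5, [([], 366, [])], []⟩
def c368 : Clm := ⟨5, 7, true, [9,13,16,17,16,14,17,15,14,4,7,8,17,1,12], [9,11,14,15,14,16,14,17,16,13,5,17,5,7,17], 7, [([], 145, [12,16,14,16,13,16,17,16,13,16]), ([190,127,191], 206, [17,16,14,17,15])], []⟩
def c369 : Clm := ⟨7, 5, true, [9,11,14,15,14,16,14,17,16,13,5,17,5,7,17], [9,13,16,17,16,14,17,15,14,4,7,8,17,1,12], 5, [([], 368, [])], []⟩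
def c370 : Clm := ⟨4, 7, true, [10,16,14,15,17,15,14,17,16,13,15,1,4,17,2,17,5], [9,16,17,16,14,17,16,13,16,17,6,2], 7, [([], 279, [11,13,15,14,16,17,16,17]), ([388,502,389,503,390,390], 211, [9,17,16,13,17,15,14,15,13,15,17,15])], []⟩
def c371 : Clm := ⟨7, 4, true, [9,16,17,16,14,17,16,13,16,17,6,2], [10,16,14,15,17,15,14,17,16,13,15,1,4,17,2,17,5], 5, [([], 370, [])], []⟩

noncomputable def cl0 (y : ℕ) : Clm := (selA 8 y (selA 4 y (selA 2 y (selA 1 y c0 c1) (selA 3 y c2 c3)) (selA 6 y (selA 5 y c4 c5) (selA 7 y c6 c7))) (selA 12 y (selA 10 y (selA 9 y c8 c9) (selA 11 y c10 c11)) (selA 14 y (selA 13 y c12 c13) (selA 15 y c14 c15))))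

noncomputable def cl1 (y : ℕ) : Clm := (selA 24 y (selA 20 y (selA 18 y (selA 17 y c16 c17) (selA 19 y c18 c19)) (selA 22 y (selA 21 y c20 c21) (selA 23 y c22 c23))) (selA 28 y (selA 26 y (selA 25 y c24 c25) (selA 27 y c26 c27)) (selA 30 y (selA 29 y c28 c29) (selA 31 y c30 c31))))

noncomputable def cl2 (y : ℕ) : Clm := (selA 40 y (selA 36 y (selA 34 y (selA 33 y c32 c33) (selA 35 y c34 c35)) (selA 38 y (selA 37 y c36 c37) (selA 39 y c38 c39))) (selA 44 y (selA 42 y (selA 41 y c40 c41) (selA 43 y c42 c43)) (selA 46 y (selA 45 y c44 c45) (selA 47 y c46 c47))))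

noncomputable def cl3 (y : ℕ) : Clm := (selA 56 y (selA 52 y (selA 50 y (selA 49 y c48 c49) (selA 51 y c50 c51)) (selA 54 y (selA 53 y c52 c53) (selA 55 y c54 c55))) (selA 60 y (selA 58 y (selA 57 y c56 c57) (selA 59 y c58 c59)) (selA 62 y (selA 61 y c60 c61) (selA 63 y c62 c63))))

noncomputable def cl4 (y : ℕ) : Clm := (selA 72 y (selA 68 y (selA 66 y (selA 65 y c64 c65) (selA 67 y c66 c67)) (selA 70 y (selA 69 y c68 c69) (selA 71 y c70 c71))) (selA 76 y (selA 74 y (selA 73 y c72 c73) (selA 75 y c74 c75)) (selA 78 y (selA 77 y c76 c77) (selA 79 y c78 c79))))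

noncomputable def cl5 (y : ℕ) : Clm := (selA 88 y (selA 84 y (selA 82 y (selA 81 y c80 c81) (selA 83 y c82 c83)) (selA 86 y (selA 85 y c84 c85) (selA 87 y c86 c87))) (selA 92 y (selA 90 y (selA 89 y c88 c89) (selA 91 y c90 c91)) (selA 94 y (selA 93 y c92 c93) (selA 95 y c94 c95))))

noncomputable def cl6 (y : ℕ) : Clm := (selA 104 y (selA 100 y (selA 98 y (selA 97 y c96 c97) (selA 99 y c98 c99)) (selA 102 y (selA 101 y c100 c101) (selA 103 y c102 c103))) (selA 108 y (selA 106 y (selA 105 y c104 c105) (selA 107 y c106 c107)) (selA 110 y (selA 109 y c108 c109) (selA 111 y c110 c111))))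

noncomputable def cl7 (y : ℕ) : Clm := (selA 120 y (selA 116 y (selA 114 y (selA 113 y c112 c113) (selA 115 y c114 c115)) (selA 118 y (selA 117 y c116 c117) (selA 119 y c118 c119))) (selA 124 y (selA 122 y (selA 121 y c120 c121) (selA 123 y c122 c123)) (selA 126 y (selA 125 y c124 c125) (selA 127 y c126 c127))))

noncomputable def cl8 (y : ℕ) : Clm := (selA 136 y (selA 132 y (selA 130 y (selA 129 y c128 c129) (selA 131 y c130 c131)) (selA 134 y (selA 133 y c132 c133) (selA 135 y c134 c135))) (selA 140 y (selA 138 y (selA 137 y c136 c137) (selA 139 y c138 c139)) (selA 142 y (selA 141 y c140 c141) (selA 143 y c142 c143))))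

noncomputable def cl9 (y : ℕ) : Clm := (selA 152 y (selA 148 y (selA 146 y (selA 145 y c144 c145) (selA 147 y c146 c147)) (selA 150 y (selA 149 y c148 c149) (selA 151 y c150 c151))) (selA 156 y (selA 154 y (selA 153 y c152 c153) (selA 155 y c154 c155)) (selA 158 y (selA 157 y c156 c157) (selA 159 y c158 c159))))

noncomputable def cl10 (y : ℕ) : Clm := (selA 168 y (selA 164 y (selA 162 y (selA 161 y c160 c161) (selA 163 y c162 c163)) (selA 166 y (selA 165 y c164 c165) (selA 167 y c166 c167))) (selA 172 y (selA 170 y (selA 169 y c168 c169) (selA 171 y c170 c171)) (selA 174 y (selA 173 y c172 c173) (selA 175 y c174 c175))))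

noncomputable def cl11 (y : ℕ) : Clm := (selA 184 y (selA 180 y (selA 178 y (selA 177 y c176 c177) (selA 179 y c178 c179)) (selA 182 y (selA 181 y c180 c181) (selA 183 y c182 c183))) (selA 188 y (selA 186 y (selA 185 y c184 c185) (selA 187 y c186 c187)) (selA 190 y (selA 189 y c188 c189) (selA 191 y c190 c191))))

noncomputable def cl12 (y : ℕ) : Clm := (selA 200 y (selA 196 y (selA 194 y (selA 193 y c192 c193) (selA 195 y c194 c195)) (selA 198 y (selA 197 y c196 c197) (selA 199 y c198 c199))) (selA 204 y (selA 202 y (selA 201 y c200 c201) (selA 203 y c202 c203)) (selA 206 y (selA 205 y c204 c205) (selA 207 y c206 c207))))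

noncomputable def cl13 (y : ℕ) : Clm := (selA 216 y (selA 212 y (selA 210 y (selA 209 y c208 c209) (selA 211 y c210 c211)) (selA 214 y (selA 213 y c212 c213) (selA 215 y c214 c215))) (selA 220 y (selA 218 y (selA 217 y c216 c217) (selA 219 y c218 c219)) (selA 222 y (selA 221 y c220 c221) (selA 223 y c222 c223))))

noncomputable def cl14 (y : ℕ) : Clm := (selA 232 y (selA 228 y (selA 226 y (selA 225 y c224 c225) (selA 227 y c226 c227)) (selA 230 y (selA 229 y c228 c229) (selA 231 y c230 c231))) (selA 236 y (selA 234 y (selA 233 y c232 c233) (selA 235 y c234 c235)) (selA 238 y (selA 237 y c236 c237) (selA 239 y c238 c239))))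

noncomputable def cl15 (y : ℕ) : Clm := (selA 248 y (selA 244 y (selA 242 y (selA 241 y c240 c241) (selA 243 y c242 c243)) (selA 246 y (selA 245 y c244 c245) (selA 247 y c246 c247))) (selA 252 y (selA 250 y (selA 249 y c248 c249) (selA 251 y c250 c251)) (selA 254 y (selA 253 y c252 c253) (selA 255 y c254 c255))))

noncomputable def cl16 (y : ℕ) : Clm := (selA 264 y (selA 260 y (selA 258 y (selA 257 y c256 c257) (selA 259 y c258 c259)) (selA 262 y (selA 261 y c260 c261) (selA 263 y c262 c263))) (selA 268 y (selA 266 y (selA 265 y c264 c265) (selA 267 y c266 c267)) (selA 270 y (selA 269 y c268 c269) (selA 271 y c270 c271))))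

noncomputable def cl17 (y : ℕ) : Clm := (selA 280 y (selA 276 y (selA 274 y (selA 273 y c272 c273) (selA 275 y c274 c275)) (selA 278 y (selA 277 y c276 c277) (selA 279 y c278 c279))) (selA 284 y (selA 282 y (selA 281 y c280 c281) (selA 283 y c282 c283)) (selA 286 y (selA 285 y c284 c285) (selA 287 y c286 c287))))

noncomputable def cl18 (y : ℕ) : Clm := (selA 296 y (selA 292 y (selA 290 y (selA 289 y c288 c289) (selA 291 y c290 c291)) (selA 294 y (selA 293 y c292 c293) (selA 295 y c294 c295))) (selA 300 y (selA 298 y (selA 297 y c296 c297) (selA 299 y c298 c299)) (selA 302 y (selA 301 y c300 c301) (selA 303 y c302 c303))))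

noncomputable def cl19 (y : ℕ) : Clm := (selA 312 y (selA 308 y (selA 306 y (selA 305 y c304 c305) (selA 307 y c306 c307)) (selA 310 y (selA 309 y c308 c309) (selA 311 y c310 c311))) (selA 316 y (selA 314 y (selA 313 y c312 c313) (selA 315 y c314 c315)) (selA 318 y (selA 317 y c316 c317) (selA 319 y c318 c319))))

noncomputable def cl20 (y : ℕ) : Clm := (selA 328 y (selA 324 y (selA 322 y (selA 321 y c320 c321) (selA 323 y c322 c323)) (selA 326 y (selA 325 y c324 c325) (selA 327 y c326 c327))) (selA 332 y (selA 330 y (selA 329 y c328 c329) (selA 331 y c330 c331)) (selA 334 y (selA 333 y c332 c333) (selA 335 y c334 c335))))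

noncomputable def cl21 (y : ℕ) : Clm := (selA 344 y (selA 340 y (selA 338 y (selA 337 y c336 c337) (selA 339 y c338 c339)) (selA 342 y (selA 341 y c340 c341) (selA 343 y c342 c343))) (selA 348 y (selA 346 y (selA 345 y c344 c345) (selA 347 y c346 c347)) (selA 350 y (selA 349 y c348 c349) (selA 351 y c350 c351))))

noncomputable def cl22 (y : ℕ) : Clm := (selA 360 y (selA 356 y (selA 354 y (selA 353 y c352 c353) (selA 355 y c354 c355)) (selA 358 y (selA 357 y c356 c357) (selA 359 y c358 c359))) (selA 364 y (selA 362 y (selA 361 y c360 c361) (selA 363 y c362 c363)) (selA 366 y (selA 365 y c364 c365) (selA 367 y c366 c367))))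

noncomputable def cl23 (y : ℕ) : Clm := (selA 370 y (selA 369 y c368 c369) (selA 371 y c370 c371))

noncomputable def cl (y : ℕ) : Clm := (selA 192 y (selA 96 y (selA 48 y (selA 16 y (cl0 y) (selA 32 y (cl1 y) (cl2 y))) (selA 64 y (cl3 y) (selA 80 y (cl4 y) (cl5 y)))) (selA 144 y (selA 112 y (cl6 y) (selA 128 y (cl7 y) (cl8 y))) (selA 160 y (cl9 y) (selA 176 y (cl10 y) (cl11 y))))) (selA 288 y (selA 240 y (selA 208 y (cl12 y) (selA 224 y (cl13 y) (cl14 y))) (selA 256 y (cl15 y) (selA 272 y (cl16 y) (cl17 y)))) (selA 336 y (selA 304 y (cl18 y) (selA 320 y (cl19 y) (cl20 y))) (selA 352 y (cl21 y) (selA 368 y (cl22 y) (cl23 y))))))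

def gwL : List (List ℕ) := [[], [18], [18,7,2,18], [18,8,18], [18,2,1,18], [18,4,18], [18,8,4,18], [18,8,3,1,18]]

noncomputable def D : Dce where
  inv := 103187034068032969634844306332357632719251964160
  m := 18
  T := 18
  TI := 19
  KL := [9,10,11,12,13,14,15,16,17]
  ax := [[1], [2], [3], [5], [6], [7], [8], [9]]
  sg := [[], [], [], [], [], [], [], [], [], [11], [12], [9], [10], [13], [14], [16], [15], [15,14,16,13,15,17,16,14,15,13,16]]
  chk := H.chk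
  pats := [([], false), ([19,18], false), ([18], true), ([19], true), ([18,2,7,2,18,2,7,2,18,2,7,2], false), ([2,7,2,19,2,7,2,19,2,7,2], true)]
  gw := nthW gwL
  cl := cl


end Cfsg.H6.LR.D
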