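import Cfsg.Agent.H6.LR.D.B0
import Cfsg.Agent.H6.LR.D.B1
import Cfsg.Agent.H6.LR.D.B2
import Cfsg.Agent.H6.LR.D.B3
import Cfsg.Agent.H6.LR.D.B4
import Cfsg.Agent.H6.LR.D.B5
import Cfsg.Agent.H6.LR.D.B6
import Cfsg.Agent.H6.LR.D.B7
import Cfsg.Agent.H6.LR.D.B8
import Cfsg.Agent.H6.LR.D.B9
import Cfsg.Agent.H6.LR.D.B10

set_option autoImplicit false
set_option maxRecDepth 100000
set_option Elab.async false

namespace Cfsg.H6.LR.D

theorem hv {G : Type*} [Group G] {ev : ℕ → G} {H : Subgroup G} (h : D.Hyp ev H) :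
    ∀ c < 372, D.Valid ev H (D.cl c) :=
  Dce.all_valid h (range_join (range_join (range_join (range_join (allR_range k0 (by norm_num : 0 + 24 = 24)) (allR_range k1 (by norm_num : 24 + 24 = 48))) (range_join (allR_range k2 (by norm_num : 48 + 24 = 72)) (allR_range k3 (by norm_num : 72 + 24 = 96)))) (range_join (range_join (allR_range k4 (by norm_num : 96 + 24 = 120)) (allR_range k5 (by norm_num : 120 + 24 = 144))) (range_join (allR_range k6 (by norm_num : 144 + 24 = 168)) (allR_range k7 (by norm_num : 168 + 24 = 192))))) (range_join (range_join (range_join (allR_range k8 (by norm_num : 192 + 24 = 216)) (allR_range k9 (by norm_num : 216 + 24 = 240))) (range_join (allR_range k10 (by norm_num : 240 + 24 = 264)) (allR_range k11 (by norm_num : 264 + 24 = 288)))) (range_join (range_join (allR_range k12 (by norm_num : 288 + 24 = 312)) (allR_range k13 (by norm_num : 312 + 24 = 336))) (range_join (allR_range k14 (by norm_num : 336 + 24 = 360)) (allR_range k15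 (by norm_num : 360 + 12 = 372))))))

def E : List (ℕ × ℕ) := [(1, 30800), (0, 1), (2, 1), (3, 534600), (4, 534600), (5, 3742200), (6, 7185024), (7, 7185024)]

theorem top : ⊤ ≤ gen H.ev (D.genW [0,1,2,3,4,5,6]) :=
  H.hX8.ge.trans (gen_le_of_zip H.hev H.hR (W := [[1],[2],[3],[5],[6],[7],[8],[8,3,8,3]])
    (by decide +kernel))

theorem hT {G : Type*} [Group G] {ev : ℕ → G} {K : Subgroup G} {θ : H.Grp →* G}
    (M : D.Model ev H.ev θ H.φY Y.img 30800) (h : D.Hyp ev K) :
    ∀ i ∈ E.map Prod.fst, ∀ p, D.InU ev K θ (E.map Prod.fst) (evL ev (D.gw i) * θ p * ev D.T) :=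
  (List.forall_mem_cons.mpr ⟨Dce.fin_sound M h (hv h) f1, (List.forall_mem_cons.mpr ⟨Dce.fin_sound M h (hv h) f0, (List.forall_mem_cons.mpr ⟨Dce.fin_sound M h (hv h) f2, (List.forall_mem_cons.mpr ⟨Dce.fin_sound M h (hv h) f3, (List.forall_mem_cons.mpr ⟨Dce.fin_sound M h (hv h) f4, (List.forall_mem_cons.mpr ⟨Dce.fin_sound M h (hv h) f5, (List.forall_mem_cons.mpr ⟨Dce.fin_sound M h (hv h) f6, (List.forall_mem_cons.mpr ⟨Dce.fin_sound M h (hv h) f7, (by simp)⟩)⟩)⟩)⟩)⟩)⟩)⟩)⟩)

theorem hE {G : Type*} [Group G] {ev : ℕ → G} {K : Subgroup G} {θ : H.Grp →* G}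
    (M : D.Model ev H.ev θ H.φY Y.img 30800) (h : D.Hyp ev K) :
    ∀ e ∈ E, Cover ((rcStab K (evL ev (D.gw e.1))).comap θ) ⊤ e.2 := by
  have := H.finite
  exact (List.forall_mem_cons.mpr ⟨Dce.cover_one M h (hv h) (Gs := [9,10,11,12]) (by decide +kernel) s1 H.ub.top.2, (List.forall_mem_cons.mpr ⟨Dce.cover_top M h (hv h) (Gs := [0,1,2,3,4,5,6]) (by decide +kernel) top, (List.forall_mem_cons.mpr ⟨Dce.cover_one M h (hv h) (Gs := [17,18,19,20,23]) (by decide +kernel) s2 H.ub.top.2, (List.forall_mem_cons.mpr ⟨Dce.cover_one M h (hv h) (Gs := [26,27,28,29,33]) (by decide +kernel) s3 H.ub.top.2, (List.forall_mem_cons.mpr ⟨Dce.cover_one M h (hv h) (Gs := [36,37,38,41]) (by decide +kernel) s4 H.ub.top.2, (List.forall_mem_cons.mpr ⟨Dce.cover_one M h (hv h) (Gs := [48,49,52,53]) (by decide +kernel) s5 H.ub.top.2, (List.forall_mem_cons.mpr ⟨Dce.cover_one M h (hv h) (Gs := [62,63,95]) (by decide +kernel) s6 H.ub.top.2, (List.forall_mem_cons.mpr ⟨Dce.cover_one M h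 (hv h) (Gs := [194,195,251]) (by decide +kernel) s7 H.ub.top.2, (by simp)⟩)⟩)⟩)⟩)⟩)⟩)⟩)⟩)

theorem model : D.Model L.ev H.ev H.θL H.φY Y.img 30800 :=
  ⟨H.hθL, H.hφY, H.ltY, H.stab, by decide +kernel⟩

def sg : List (List ℕ) := [[], [1], [2], [3], [4], [5], [6], [7], [8], [9], [10], [11], [12], [13], [14], [15], [16], [17], [18], [19]]

theorem evS_sg : evS L.ev sg = L.ev := by
  funext l
  by_cases h : l < 20
  · interval_cases l
    · exact L.hev.zero.symm
    all_goals exact evL_singleton _ _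
  · rw [L.hev.eq_one (m := 20) (by norm_num) (by omega), evS, List.getD_eq_default _ _ (by
      show 20 ≤ l
      omega)]
    rfl

theorem hyp : D.Hyp L.ev H.θL.range := by
  rw [← evS_sg]
  refine Dce.hyp_of L.hev L.hR (by decide +kernel) (fun w hw => ?_) ?_ <;> rw [evS_sg]
  · rw [← model.mapW (H.chk_inR hw), H.ora w hw, map_one]
  · exact Dce.ax_range (D := D) H.hθL (by decide +kernel)

theorem hU : ∀ x, D.InU L.ev H.θL.range H.θL (E.map Prod.fst) x :=
  Dce.all_inU ⟨0, by decide +kernel, by decide +kernel⟩ (hT model hyp)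
    (Dce.hinv model hyp (a := []) (b := []) (by decide +kernel))
    L.hX (Dce.hgen model (by decide +kernel))

theorem cover : Cover H.θL.range ⊤ 19212250 := Dce.cover E (hE model hyp) hU

theorem ub : UB (⊤ : Subgroup L.Grp) 51765179004000000 := by
  have := H.ub.map H.θL
  rw [← MonoidHom.range_eq_map] at this
  exact this.cover cover

theorem main : Nat.card L.Grp = 51765179004000000 ∧ Function.Injective LM.μ := card_of_kq ub LM.dv


end Cfsg.H6.LR.D
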